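import Cfsg.Agent.BC84.Dihedral.LocalColumns
import Cfsg.Agent.Lib.BlocksCore.Inflate
import Cfsg.Agent.Lib.BlocksCore.SecondMain

/-!
# Blocks with a central defect group

The central characters of such a block separate the parts of a class function at the elements of
the defect group, and the parts of a product are the products of the parts.
-/

set_option autoImplicit false
set_option linter.unusedSectionVars false
set_option linter.style.haveILetI false
set_option linter.unusedVariables false

namespace Cfsg.Agent.BC84.Dihedral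

open BlocksCore BlocksDefect BC85 BC85.Star
open scoped Classical ComplexConjugate

universe u

variable {K : Type u} [Group K] [Fintype K] {p : ℕ} [Fact p.Prime] {M : Ideal AlgInt}
  [hP : M.IsPrime]

/-- The part of a central character at the section of `x`. -/
noncomputable def secPart (p : ℕ) [Fact p.Prime] (η : IrrCharacter K) (f : K → ℂ) (x : K) : ℂ :=
  omega (η : K → ℂ) fun k => if pp p k = x then f k else 0

theorem isClassFunction_section {f : K → ℂ} (hf : IsClassFunction K f) {x : K}
    (hx : x ∈ Subgroup.center K) : IsClassFunction K fun k => if pp p k = x then f k else 0 := by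
  intro g h
  have hfix : h * x * h⁻¹ = x := by
    rw [Subgroup.mem_center_iff.mp hx h, mul_inv_cancel_right]
  have hiff : pp p (h * g * h⁻¹) = x ↔ pp p g = x := by
    rw [pp_conj]
    constructor
    · intro he
      exact mul_left_cancel (mul_right_cancel (he.trans hfix.symm))
    · intro he; rw [he, hfix]
  simp only [hiff, hf g h]

theorem secPart_mem_ideal (η : IrrCharacter K) {f g : K → ℂ} {x : K} (hx : x ∈ Subgroup.center K)
    (hf : IsClassFunction K f) (hg : IsClassFunction K g) (h : ∀ k, MemLocalIdeal M (f k - g k)) :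
    MemLocalIdeal M (secPart p η f x - secPart p η g x) := by
  have hd : IsClassFunction K fun k => if pp p k = x then f k - g k else 0 :=
    isClassFunction_section (fun a b => by show f _ - g _ = f a - g a; rw [hf, hg]) hx
  have he : secPart p η f x - secPart p η g x =
      omega (η : K → ℂ) fun k => if pp p k = x then f k - g k else 0 := by
    simp only [secPart, omega_eq_sum, ← sub_div, ← Finset.sum_sub_distrib]
    congr 1
    refine Finset.sum_congr rfl fun k _ => ?_
    split_ifs <;> ring
  rw [he]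
  refine omega_memLocalIdeal η hd fun k => ?_
  split_ifs
  · exact h k
  · exact memLocalIdeal_zero

theorem secPart_eq_sum (η : IrrCharacter K) (f : K → ℂ) {x : K} (hx : ∃ n : ℕ, orderOf x = p ^ n) :
    secPart p η f x = (∑ s ∈ sect p x, f (x * s) * (η : K → ℂ) (x * s)) / (η : K → ℂ) 1 := by
  rw [secPart, omega_eq_sum]
  congr 1
  simp only [ite_mul, zero_mul]
  rw [← Finset.sum_filter]
  refine (Finset.sum_bij (fun s _ => x * s) (fun s hs => Finset.mem_filter.mpr ⟨Finset.mem_univ _,
    pp_mul hx (mem_sect.mp hs).2 (Subgroup.mem_centralizer_singleton_iff.mp (mem_sect.mp hs).1).symm⟩)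
    (fun _ _ _ _ h => mul_left_cancel h) (fun g hg => ?_) fun s _ => rfl).symm
  obtain ⟨hc, hr⟩ := regular_inv_pp_mul (p := p) g
  rw [(Finset.mem_filter.mp hg).2] at hc hr
  exact ⟨_, mem_sect.mpr ⟨Subgroup.mem_centralizer_singleton_iff.mpr hc.eq.symm, hr⟩,
    mul_inv_cancel_left x g⟩

variable (hM : IsPModular p M) {b : Set (IrrCharacter K)} {P : Subgroup K}
  {e : Set (IrrCharacter (Subgroup.centralizer (P : Set K)))}
  (hmax : IsMaximalBrauerPair p M b P e) (hPZ : P ≤ Subgroup.center K)
include hM hmax hPZ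

theorem nilpotent_of_central_defect : IsNilpotentBlock p M b :=
  isNilpotentBlock_of_below hM hmax fun _ _ hQ x _ _ =>
    Subgroup.mem_centralizer_iff.mpr fun y hy =>
      (Subgroup.mem_center_iff.mp (hPZ (subpairLE_le hQ hy)) x).symm

/-- A star product off the defect group vanishes, on it it multiplies. -/
theorem starMul_central {θ : P → ℂ} (hθ : IsPairStable p M P e θ) {η : IrrCharacter K} (hη : η ∈ b)
    (k : K) : starMul p M P e θ (η : K → ℂ) k =
      if hk : pp p k ∈ P then θ ⟨pp p k, hk⟩ * (η : K → ℂ) k else 0 := by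
  have hv : ∃ n : ℕ, orderOf (pp p k) = p ^ n := (pp_spec (p := p) k).choose_spec.2.2.1
  obtain ⟨hc, hr⟩ := regular_inv_pp_mul (p := p) k
  have hsc : (pp p k)⁻¹ * k ∈ Subgroup.centralizer ({pp p k} : Set K) :=
    Subgroup.mem_centralizer_singleton_iff.mpr hc.eq.symm
  have hkey : ∀ a ∈ pairsAt M (Subgroup.zpowers (pp p k)), IsBrauerPairOf p M b a.1 a.2 →
      ∃ hk : pp p k ∈ P, etaOf p M P e θ a (pp p k) = θ ⟨pp p k, hk⟩ := by
    intro a ha hB
    obtain ⟨t, ht, htv⟩ := exists_conj_mem hM hmax (mem_pairsAt.mp ha).1 hB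
    have hfix : t * pp p k * t⁻¹ = pp p k := by
      have hcc := Subgroup.mem_center_iff.mp (hPZ htv) t⁻¹
      calc t * pp p k * t⁻¹ = t * (t⁻¹ * (t * pp p k * t⁻¹)) := by group
        _ = t * (t * pp p k * t⁻¹ * t⁻¹) := by rw [hcc]
        _ = t * (t⁻¹ * (t * pp p k * t⁻¹)) := by rw [hcc]
        _ = pp p k := by
          have h2 := Subgroup.mem_center_iff.mp (hPZ htv) t
          calc t * (t⁻¹ * (t * pp p k * t⁻¹)) = t⁻¹ * (t * (t * pp p k * t⁻¹)) := by group
            _ = t⁻¹ * (t * pp p k * t⁻¹ * t) := by rw [h2]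
            _ = pp p k := by group
    refine ⟨hfix ▸ htv, ?_⟩
    rw [etaOf_eq hθ (mem_pairsAt.mp ha).1 ht htv]
    exact congrArg θ (Subtype.ext hfix)
  rw [starMul, starFun_def]
  split_ifs with hk
  · have h1 := sum_proj (M := M) hM (pp p k) (η : K → ℂ) ((pp p k)⁻¹ * k)
    rw [mul_inv_cancel_left] at h1
    rw [← h1, Finset.mul_sum]
    refine Finset.sum_congr rfl fun a ha => ?_
    by_cases hB : IsBrauerPairOf p M b a.1 a.2
    · obtain ⟨_, he⟩ := hkey a ha hB
      rw [he]
    · rw [show proj a (pp p k) (η : K → ℂ) ((pp p k)⁻¹ * k) = 0 from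
        proj_eq_zero_of_not_pairOf hM hmax.1.2.1 hη hv ha hB (s := ⟨_, hsc⟩)
          (by rwa [← Subgroup.orderOf_coe]), mul_zero, mul_zero]
  · refine Finset.sum_eq_zero fun a ha => ?_
    by_cases hB : IsBrauerPairOf p M b a.1 a.2
    · exact absurd (hkey a ha hB).1 hk
    · rw [show proj a (pp p k) (η : K → ℂ) ((pp p k)⁻¹ * k) = 0 from
        proj_eq_zero_of_not_pairOf hM hmax.1.2.1 hη hv ha hB (s := ⟨_, hsc⟩)
          (by rwa [← Subgroup.orderOf_coe]), mul_zero]

/-- The central character of a member through the parts at the defect group. -/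
theorem omega_starMul {η : IrrCharacter K} (hη : η ∈ b) {θ : IrrCharacter P}
    (hθ : IsPairStable p M P e (θ : P → ℂ)) {ψ : IrrCharacter K}
    (hψ : (ψ : K → ℂ) = starMul p M P e (θ : P → ℂ) (η : K → ℂ)) (f : K → ℂ) :
    omega (ψ : K → ℂ) f =
      (∑ x : P, (θ : P → ℂ) x * secPart p η f (x : K)) / (θ : P → ℂ) 1 := by
  have h1 : (ψ : K → ℂ) 1 = (θ : P → ℂ) 1 * (η : K → ℂ) 1 := by
    rw [hψ]; exact starMul_regular hM hmax hθ hη (by simpa using (Fact.out : p.Prime).ne_one)
  simp only [omega_eq_sum, secPart, ite_mul, zero_mul]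
  rw [h1, Finset.sum_div, Finset.sum_div]
  simp only [Finset.sum_div, Finset.mul_sum]
  rw [Finset.sum_comm]
  refine Finset.sum_congr rfl fun k _ => ?_
  rw [hψ, starMul_central hM hmax hPZ hθ hη]
  have hθ1 := irr_one_ne_zero θ
  have hη1 := irr_one_ne_zero η
  split_ifs with hk
  · rw [Finset.sum_eq_single ⟨pp p k, hk⟩]
    · rw [if_pos rfl]; field_simp
    · intro x _ hx
      rw [if_neg fun he => hx (Subtype.ext he.symm)]; simp
    · simp
  · rw [Finset.sum_eq_zero fun x _ => by
      rw [if_neg fun (he : pp p k = (x : K)) => hk (he.symm ▸ x.2)]; simp]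
    simp

/-- The part of a product is the product of the parts. -/
theorem secPart_conv {η : IrrCharacter K} (hη : η ∈ b)
    (h0 : blockHeight p b (η : K → ℂ) = 0) {f₁ f₂ f₃ : K → ℂ} (h₁ : IsClassFunction K f₁)
    (h₂ : IsClassFunction K f₂) (h₃ : IsClassFunction K f₃) (y : P) :
    secPart p η (conv (conv f₁ f₂) f₃) (y : K) = ∑ x₁ : P, ∑ x₂ : P, ∑ x₃ : P,
      if x₁ * x₂ * x₃ = y then
        secPart p η f₁ (x₁ : K) * secPart p η f₂ (x₂ : K) * secPart p η f₃ (x₃ : K) else 0 := by
  have hcomm : ∀ a c : P, a * c = c * a := fun a c =>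
    Subtype.ext (Subgroup.mem_center_iff.mp (hPZ c.2) (a : K))
  have hcen : ∀ a : P, a ∈ Subgroup.center P := fun a => Subgroup.mem_center_iff.mpr fun c => hcomm c a
  have hconj : ∀ a c : P, IsConj a c ↔ a = c := fun a c => by
    refine ⟨fun h => ?_, fun h => h ▸ IsConj.refl a⟩
    obtain ⟨t, ht⟩ := isConj_iff.mp h
    rwa [hcomm t a, mul_inv_cancel_right] at ht
  have hcard : ∀ a : P, Nat.card (Subgroup.centralizer ({a} : Set P)) = Nat.card P := fun a => by
    rw [show Subgroup.centralizer ({a} : Set P) = ⊤ from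
      eq_top_iff.mpr fun c _ => Subgroup.mem_centralizer_singleton_iff.mpr (hcomm c a),
      Subgroup.card_top]
  have hnil := nilpotent_of_central_defect hM hmax hPZ
  have hpick : ∀ (F : P → ℂ) (c : P),
      ∑ θ : IrrCharacter P, conj ((θ : P → ℂ) c) * ∑ x : P, (θ : P → ℂ) x * F x =
        (Nat.card P : ℂ) * F c := by
    intro F c
    simp only [Finset.mul_sum]
    rw [Finset.sum_comm]
    rw [Finset.sum_congr rfl fun x _ => (Finset.sum_congr rfl fun (θ : IrrCharacter P) _ =>
      show conj ((θ : P → ℂ) c) * ((θ : P → ℂ) x * F x) =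
        (θ : P → ℂ) x * conj ((θ : P → ℂ) c) * F x by ring).trans (Finset.sum_mul _ _ _).symm]
    simp only [CharCore.sum_apply_mul_conj, hconj, hcard, ite_mul, zero_mul,
      Finset.sum_ite_eq', Finset.mem_univ, if_true]
  refine mul_left_cancel₀ (Nat.cast_ne_zero.mpr Nat.card_pos.ne' : (Nat.card P : ℂ) ≠ 0) ?_
  have hcl : IsClassFunction K (conv f₁ f₂) := isClassFunction_conv h₁ h₂
  rw [← hpick (fun x => secPart p η (conv (conv f₁ f₂) f₃) (x : K)) y]
  calc ∑ θ : IrrCharacter P, conj ((θ : P → ℂ) y) *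
        ∑ x : P, (θ : P → ℂ) x * secPart p η (conv (conv f₁ f₂) f₃) (x : K)
      = ∑ θ : IrrCharacter P, conj ((θ : P → ℂ) y) * ∑ x₁ : P, ∑ x₂ : P, ∑ x₃ : P,
          (θ : P → ℂ) (x₁ * x₂ * x₃) *
            (secPart p η f₁ (x₁ : K) * secPart p η f₂ (x₂ : K) * secPart p η f₃ (x₃ : K)) := by
        refine Finset.sum_congr rfl fun θ _ => ?_
        congr 1
        have hst := isPairStable_class hM hmax hnil (irr_class θ)
        obtain ⟨ψ, -, hψ⟩ := exists_nilIrr hM hmax hnil hη h0 θ
        have hθ1 := irr_one_ne_zero θ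
        have hmul : ∀ a c : P, (θ : P → ℂ) (a * c) * (θ : P → ℂ) 1 =
            (θ : P → ℂ) a * (θ : P → ℂ) c := fun a c => by
          rw [apply_mul_of_center θ (hcen c), cval]
          field_simp
        have hom := omega_conv ψ hcl h₃
        rw [omega_conv ψ h₁ h₂, omega_starMul hM hmax hPZ hη hst hψ,
          omega_starMul hM hmax hPZ hη hst hψ, omega_starMul hM hmax hPZ hη hst hψ,
          omega_starMul hM hmax hPZ hη hst hψ] at hom
        field_simp at hom
        refine mul_left_cancel₀ (mul_ne_zero hθ1 hθ1) ?_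
        rw [pow_two] at hom
        simp only [Finset.sum_mul, Finset.mul_sum] at hom ⊢
        convert hom using 1
        · exact Finset.sum_congr rfl fun x _ => by ring
        · rw [Finset.sum_comm, Finset.sum_congr rfl fun _ _ => Finset.sum_comm]
          rw [Finset.sum_comm]
          refine Finset.sum_congr rfl fun x₃ _ => ?_
          refine Finset.sum_congr rfl fun x₂ _ => ?_
          refine Finset.sum_congr rfl fun x₁ _ => ?_
          have e1 := hmul (x₁ * x₂) x₃
          have e2 := hmul x₁ x₂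
          linear_combination (secPart p η f₁ (x₁ : K) * secPart p η f₂ (x₂ : K) *
            secPart p η f₃ (x₃ : K) * (θ : P → ℂ) 1) * e1 + (secPart p η f₁ (x₁ : K) *
            secPart p η f₂ (x₂ : K) * secPart p η f₃ (x₃ : K) * (θ : P → ℂ) x₃) * e2
    _ = _ := by
        simp only [Finset.mul_sum]
        rw [Finset.sum_comm]
        refine Finset.sum_congr rfl fun x₁ _ => ?_
        rw [Finset.sum_comm]
        refine Finset.sum_congr rfl fun x₂ _ => ?_
        rw [Finset.sum_comm]
        refine Finset.sum_congr rfl fun x₃ _ => ?_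
        rw [Finset.sum_congr rfl fun θ _ => by rw [← mul_assoc, mul_comm (conj _)],
          ← Finset.sum_mul, CharCore.sum_apply_mul_conj, hcard]
        simp only [hconj, ite_mul, zero_mul, mul_ite, mul_zero]

end Cfsg.Agent.BC84.Dihedral
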