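import Cfsg.Agent.BC84.Dihedral.Count
import Cfsg.Agent.Lib.CharCore.Linear
import Cfsg.Agent.Lib.CharCore.Virtual
import Mathlib.Analysis.Fourier.ZMod

/-!
# Coefficients of characters of a cyclic group
-/

set_option autoImplicit false
set_option linter.unusedSectionVars false

namespace Cfsg.Agent.BC84.Dihedral

open scoped ComplexConjugate

variable {N : ℕ} [NeZero N]

open ZMod (stdAddChar)

theorem sum_char_mul (t : ZMod N) :
    ∑ c : ZMod N, (stdAddChar (c * t) : ℂ) = if t = 0 then (N : ℂ) else 0 := by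
  have h := AddChar.sum_mulShift (R := ZMod N) t (ZMod.isPrimitive_stdAddChar N)
  rw [h, ZMod.card]
  split_ifs <;> simp

/-- The multiplicities of the linear characters in a character of a cyclic group. -/
theorem exists_coeff (f : ZMod N → ℂ)
    (hf : IsCharacter (Multiplicative (ZMod N)) fun x => f x.toAdd) :
    ∃ a : ZMod N → ℕ, ∀ j, (N : ℂ) * (a j : ℂ) = ∑ c : ZMod N, f c * stdAddChar (-(c * j)) := by
  classical
  let lam : ZMod N → Multiplicative (ZMod N) →* ℂˣ := fun j =>
    ((stdAddChar (N := N)).mulShift j).toMonoidHom.toHomUnits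
  choose a ha using fun j => CharCore.IsCharacter.exists_classInner_irr_eq_natCast hf
    ⟨_, CharCore.isIrrCharacter_hom (lam j)⟩
  refine ⟨a, fun j => ?_⟩
  rw [← ha j, classInner, Nat.card_eq_fintype_card, Fintype.card_multiplicative, ZMod.card,
    ← mul_assoc, mul_inv_cancel₀ (Nat.cast_ne_zero.mpr (NeZero.ne N)), one_mul]
  refine (Fintype.sum_equiv Multiplicative.ofAdd _ _ fun c => ?_).symm
  rw [AddChar.map_neg_eq_conj, mul_comm c j]
  rfl

variable {f : ZMod N → ℂ} {a : ZMod N → ℕ}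
  (ha : ∀ j, (N : ℂ) * (a j : ℂ) = ∑ c : ZMod N, f c * stdAddChar (-(c * j)))
include ha

theorem coeff_inversion (c : ZMod N) : f c = ∑ j : ZMod N, (a j : ℂ) * stdAddChar (j * c) := by
  refine mul_left_cancel₀ (Nat.cast_ne_zero.mpr (NeZero.ne N) : (N : ℂ) ≠ 0) ?_
  rw [Finset.mul_sum, Finset.sum_congr rfl fun j _ => by rw [← mul_assoc, ha, Finset.sum_mul],
    Finset.sum_comm]
  simp only [mul_assoc, ← Finset.mul_sum, ← AddChar.map_add_eq_mul]
  rw [Finset.sum_eq_single c]
  · rw [Finset.sum_congr rfl (g := fun _ => (1 : ℂ)) fun j _ => by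
      rw [show -(c * j) + j * c = 0 by ring, AddChar.map_zero_eq_one]]
    simp [mul_comm]
  · intro d _ hd
    rw [Finset.sum_congr rfl (g := fun j => (stdAddChar (j * (c - d)) : ℂ)) fun j _ => by
      congr 1; ring, sum_char_mul, if_neg (sub_ne_zero.mpr (Ne.symm hd)), mul_zero]
  · simp

theorem coeff_symm (hsym : ∀ c, f (-c) = f c) (j : ZMod N) : a (-j) = a j := by
  refine Nat.cast_injective (R := ℂ) (mul_left_cancel₀
    (Nat.cast_ne_zero.mpr (NeZero.ne N) : (N : ℂ) ≠ 0) ?_)
  rw [ha, ha]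
  exact Fintype.sum_equiv (Equiv.neg _) _ _ fun c => by
    rw [Equiv.neg_apply, hsym, show -(-c * j) = -(c * -j) by ring]

theorem coeff_sub (i j : ZMod N) : (N : ℂ) * (((a i : ℤ) - a j : ℤ) : ℂ) =
    ∑ c : ZMod N, f c * (stdAddChar (-(c * i)) - stdAddChar (-(c * j))) := by
  push_cast
  rw [mul_sub, ha, ha, ← Finset.sum_sub_distrib]
  exact Finset.sum_congr rfl fun c _ => by ring

omit ha

variable {ι : Type*} [Fintype ι] {F : ι → ZMod N → ℂ} {A : ι → ZMod N → ℕ}
  (hA : ∀ x j, (N : ℂ) * (A x j : ℂ) = ∑ c : ZMod N, F x c * stdAddChar (-(c * j)))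
include hA

/-- The scalar products of the differences of the coefficient columns. -/
theorem gram_of_orth
    (horth : ∀ c c' : ZMod N, c ≠ 0 → c' ≠ 0 → ∑ x, F x c * F x c' =
      (N : ℂ) * ((if c' = c then 1 else 0) + if c' = -c then 1 else 0)) (i j k l : ZMod N) :
    ∑ x, ((A x i : ℤ) - A x j) * ((A x k : ℤ) - A x l) = br i k - br i l - br j k + br j l := by
  classical
  have hN : (N : ℂ) ≠ 0 := Nat.cast_ne_zero.mpr (NeZero.ne N)
  refine Int.cast_injective (α := ℂ) (mul_left_cancel₀ (mul_ne_zero hN hN) ?_)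
  set u : ZMod N → ℂ := fun c => stdAddChar (-(c * i)) - stdAddChar (-(c * j)) with hu
  set w : ZMod N → ℂ := fun c => stdAddChar (-(c * k)) - stdAddChar (-(c * l)) with hw
  have h1 : (N : ℂ) * N * ((∑ x, ((A x i : ℤ) - A x j) * ((A x k : ℤ) - A x l) : ℤ) : ℂ) =
      ∑ c, ∑ c', u c * w c' * ∑ x, F x c * F x c' := by
    rw [Int.cast_sum, Finset.mul_sum, Finset.sum_congr rfl fun x _ => by
      rw [Int.cast_mul, mul_mul_mul_comm, coeff_sub (hA x), coeff_sub (hA x), Finset.sum_mul_sum],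
      Finset.sum_comm]
    refine Finset.sum_congr rfl fun c _ => ?_
    rw [Finset.sum_comm]
    refine Finset.sum_congr rfl fun c' _ => ?_
    rw [Finset.mul_sum]
    exact Finset.sum_congr rfl fun x _ => by simp only [hu, hw]; ring
  have h2 : ∀ c c', u c * w c' * ∑ x, F x c * F x c' =
      u c * w c' * ((N : ℂ) * ((if c' = c then 1 else 0) + if c' = -c then 1 else 0)) := by
    intro c c'
    by_cases hc : c = 0
    · simp [hu, hc]
    by_cases hc' : c' = 0
    · simp [hw, hc']
    rw [horth c c' hc hc']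
  rw [h1, Finset.sum_congr rfl fun c _ => Finset.sum_congr rfl fun c' _ => h2 c c']
  simp only [mul_add, mul_ite, mul_one, mul_zero, Finset.sum_add_distrib, Finset.sum_ite_eq',
    Finset.mem_univ, if_true]
  have hs : ∀ s t : ZMod N, ∑ c : ZMod N, (stdAddChar (-(c * s)) : ℂ) * stdAddChar (-(c * t)) =
      (N : ℂ) * if s = -t then 1 else 0 := by
    intro s t
    rw [Finset.sum_congr rfl (g := fun c => (stdAddChar (c * -(s + t)) : ℂ)) fun c _ => by
      rw [← AddChar.map_add_eq_mul]; congr 1; ring, sum_char_mul]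
    simp only [neg_eq_zero, add_eq_zero_iff_eq_neg]
    split_ifs <;> simp
  have hs' : ∀ s t : ZMod N, ∑ c : ZMod N, (stdAddChar (-(c * s)) : ℂ) * stdAddChar (-(-c * t)) =
      (N : ℂ) * if s = t then 1 else 0 := by
    intro s t
    rw [Finset.sum_congr rfl (g := fun c => (stdAddChar (-(c * s)) : ℂ) * stdAddChar (-(c * -t)))
      fun c _ => by rw [show -c * t = c * -t by ring], hs, neg_neg]
  simp only [← Finset.sum_mul, hu, hw, sub_mul, mul_sub, Finset.sum_sub_distrib, hs, hs', br]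
  push_cast
  simp only [sub_mul, add_mul, mul_add, mul_sub]
  split_ifs <;> ring

/-- The differences are orthogonal to a vector orthogonal to the values. -/
theorem orth_of_orth {δ : ι → ℤ} (horth : ∀ c : ZMod N, c ≠ 0 → ∑ x, F x c * (δ x : ℂ) = 0)
    (i j : ZMod N) : ∑ x, ((A x i : ℤ) - A x j) * δ x = 0 := by
  classical
  refine Int.cast_injective (α := ℂ) (mul_left_cancel₀
    (Nat.cast_ne_zero.mpr (NeZero.ne N) : (N : ℂ) ≠ 0) ?_)
  rw [Int.cast_zero, mul_zero, Int.cast_sum, Finset.mul_sum, Finset.sum_congr rfl fun x _ => by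
    rw [Int.cast_mul, ← mul_assoc, coeff_sub (hA x), Finset.sum_mul], Finset.sum_comm]
  refine Finset.sum_eq_zero fun c _ => ?_
  by_cases hc : c = 0
  · simp [hc]
  · rw [Finset.sum_congr rfl (g := fun x => (stdAddChar (-(c * i)) - stdAddChar (-(c * j))) *
      (F x c * (δ x : ℂ))) fun x _ => by ring, ← Finset.mul_sum, horth c hc, mul_zero]

omit hA

theorem stdAddChar_half {h : ℕ} [NeZero (2 * h)] : (stdAddChar ((h : ZMod (2 * h))) : ℂ) = -1 := by
  have hsq : (stdAddChar ((h : ZMod (2 * h))) : ℂ) ^ 2 = 1 := by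
    rw [pow_two, ← AddChar.map_add_eq_mul, ← Nat.cast_add, ← two_mul, ZMod.natCast_self,
      AddChar.map_zero_eq_one]
  have hne : (stdAddChar ((h : ZMod (2 * h))) : ℂ) ≠ 1 := fun h1 => by
    have h0 : (stdAddChar (N := 2 * h)) (h : ZMod (2 * h)) = stdAddChar (0 : ZMod (2 * h)) := by
      rw [h1, AddChar.map_zero_eq_one]
    have h2 := ZMod.injective_stdAddChar h0
    rw [ZMod.natCast_eq_zero_iff] at h2
    have hpos : 0 < 2 * h := NeZero.pos _
    have := Nat.le_of_dvd (by omega) h2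
    omega
  exact (sq_eq_one_iff.mp hsq).resolve_left hne

end Cfsg.Agent.BC84.Dihedral
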