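import Cfsg.Agent.BlkChar.AbelianTwistSum
import Cfsg.Agent.BC85.Star.NilpotentIrr
import Cfsg.Agent.Lib.BlocksCore.WeakOrth

/-!
# Columns of a block at its subsections of rank one

When the projections at a subsection are one function times a coefficient column, the star product
with the class of the subsection is the projection of rank one on that column.
-/

set_option autoImplicit false
set_option linter.unusedSectionVars false

namespace Cfsg.Agent.BC84.Dihedral

open BlocksCore BlocksDefect BC85 BC85.Star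
open scoped Classical ComplexConjugate

universe u

variable {G : Type u} [Group G] [Fintype G] {p : ℕ} [Fact p.Prime] {M : Ideal AlgInt}
  [hP : M.IsPrime]

/-- The regular elements of the centralizer. -/
noncomputable def sect (p : ℕ) (v : G) : Finset G :=
  Finset.univ.filter fun s => s ∈ Subgroup.centralizer ({v} : Set G) ∧ ¬ p ∣ orderOf s

theorem mem_sect {v s : G} :
    s ∈ sect p v ↔ s ∈ Subgroup.centralizer ({v} : Set G) ∧ ¬ p ∣ orderOf s := by simp [sect]

theorem one_mem_sect (v : G) : (1 : G) ∈ sect p v :=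
  mem_sect.mpr ⟨one_mem _, by simpa using (Fact.out : p.Prime).ne_one⟩

theorem sum_sect (v : G) (f : G → ℂ) :
    ∑ s ∈ sect p v, f s =
      ∑ s ∈ Finset.univ.filter (fun s : Subgroup.centralizer ({v} : Set G) => ¬ p ∣ orderOf s),
        f s :=
  (Finset.sum_bij (fun (s : Subgroup.centralizer ({v} : Set G)) _ => (s : G))
    (fun s hs => mem_sect.mpr ⟨s.2, by rw [Subgroup.orderOf_coe]; exact (Finset.mem_filter.mp hs).2⟩)
    (fun _ _ _ _ h => Subtype.ext h)
    (fun s hs => ⟨⟨s, (mem_sect.mp hs).1⟩, Finset.mem_filter.mpr ⟨Finset.mem_univ _, by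
      rw [← Subgroup.orderOf_coe]; exact (mem_sect.mp hs).2⟩, rfl⟩)
    fun s _ => rfl).symm

/-- The contribution as the scalar product of the projections. -/
theorem contribAt_eq_sum (hM : IsPModular p M) {v : G} (hv : ∃ n : ℕ, orderOf v = p ^ n)
    {a : BrauerPairIdx G} (ha : a ∈ pairsAt M (Subgroup.zpowers v)) {F F' : G → ℂ}
    (hF : IsClassFunction G F) (hF' : IsClassFunction G F') :
    contribAt p a v F F' = ∑ s ∈ sect p v, proj a v F s * conj (proj a v F' s) := by
  obtain ⟨b, hb, hcoe, -⟩ := exists_block_induced hM hv ha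
  set f : (Subgroup.centralizer ({v} : Set G)) → ℂ := fun c => F (v * c)
  set f' : (Subgroup.centralizer ({v} : Set G)) → ℂ := fun c => F' (v * c)
  have hidem : ∀ s, blockPart b (blockPart b f) s = blockPart b f s := by
    intro s
    rw [CharCore.BlockSections.blockPart_eq_sum b (blockPart b f),
      CharCore.BlockSections.blockPart_eq_sum b f]
    refine Finset.sum_congr rfl fun θ hθ => ?_
    congr 1
    rw [show blockPart b f = ∑ η ∈ Finset.univ.filter (· ∈ b),
        classInner f (η : (Subgroup.centralizer ({v} : Set G)) → ℂ) • (η : (Subgroup.centralizer ({v} : Set G)) → ℂ) from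
      funext fun x => by
        rw [CharCore.BlockSections.blockPart_eq_sum, Finset.sum_apply]
        rfl, CharCore.classInner_sum_irr, if_pos hθ]
  rw [contribAt, ← Finset.sum_filter, ← sect, sum_sect, sum_sect]
  calc ∑ s ∈ Finset.univ.filter (fun s : (Subgroup.centralizer ({v} : Set G)) => ¬ p ∣ orderOf s),
        proj a v F s * conj (F' (v * s))
      = ∑ s ∈ Finset.univ.filter (fun s : (Subgroup.centralizer ({v} : Set G)) => ¬ p ∣ orderOf s), blockPart b f s * conj (f' s) :=
        Finset.sum_congr rfl fun s _ => by rw [proj_eq_blockPart hF hcoe]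
    _ = ∑ s ∈ Finset.univ.filter (fun s : (Subgroup.centralizer ({v} : Set G)) => ¬ p ∣ orderOf s),
        blockPart b f s * conj (blockPart b f' s) := by
        rw [← sum_regular_blockPart_symm hM hb (blockPart b f) f']
        exact Finset.sum_congr rfl fun s _ => by rw [hidem]
    _ = _ := Finset.sum_congr rfl fun s _ => by
        rw [proj_eq_blockPart hF hcoe, proj_eq_blockPart hF' hcoe]

/-- The trace of the contributions. -/
theorem trace_contribAt (hM : IsPModular p M) {B : Set (IrrCharacter G)} (hB : IsPBlock M B)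
    {v : G} (hv : ∃ n : ℕ, orderOf v = p ^ n) {a : BrauerPairIdx G}
    (ha : a ∈ pairsAt M (Subgroup.zpowers v)) (hpair : IsBrauerPairOf p M B a.1 a.2) :
    ∑ χ ∈ CharCore.SubContrib.mems B, contribAt p a v (χ : G → ℂ) (χ : G → ℂ) =
      (Nat.card (Subgroup.centralizer ({v} : Set G)) : ℂ) * (blockRank p a.2 : ℂ) := by
  rw [← BlkChar.AbelianTwistSum.sum_proj_mul_conj hM hB hv ha hpair]
  refine Finset.sum_congr rfl fun χ _ => ?_
  rw [contribAt, ← Finset.sum_filter, ← sect, sum_sect]

/-- The projection read in a subgroup containing the centralizer. -/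
theorem proj_restrict {H : Subgroup G} {a' : BrauerPairIdx H} {a : BrauerPairIdx G}
    (h : IsPairLift a' a) (v s : H) (F : G → ℂ) :
    proj a (v : G) F (s : G) = proj a' v (fun x : H => F x) s := by
  rw [proj, proj, ← Finset.sum_filter_add_sum_filter_not Finset.univ (fun c : G => c ∈ H),
    Finset.sum_eq_zero (s := Finset.univ.filter fun c : G => ¬ c ∈ H) (fun c hc => by
      rw [bp_of_notMem a.1 a.2 fun hc' => (Finset.mem_filter.mp hc).2 (h.centLe hc'), zero_mul]),
    add_zero]
  refine (Finset.sum_bij (fun (c : H) _ => (c : G))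
    (fun c _ => Finset.mem_filter.mpr ⟨Finset.mem_univ _, c.2⟩) (fun _ _ _ _ h => Subtype.ext h)
    (fun c hc => ⟨⟨c, (Finset.mem_filter.mp hc).2⟩, Finset.mem_univ _, rfl⟩) fun c _ => ?_).symm
  rw [← h.coeff, Subgroup.coe_mul, Subgroup.coe_mul]

theorem proj_sum {ι : Type*} (S : Finset ι) (c : ι → ℂ) (f : ι → G → ℂ) (a : BrauerPairIdx G)
    (v s : G) :
    proj a v (fun g => ∑ i ∈ S, c i * f i g) s = ∑ i ∈ S, c i * proj a v (f i) s := by
  simp only [proj, Finset.mul_sum]
  rw [Finset.sum_comm]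
  exact Finset.sum_congr rfl fun i _ => Finset.sum_congr rfl fun x _ => by ring

variable (hM : IsPModular p M) {B : Set (IrrCharacter G)} {P : Subgroup G}
  {e : Set (IrrCharacter (Subgroup.centralizer (P : Set G)))}
  (hmax : IsMaximalBrauerPair p M B P e)
include hM hmax

/-- The class of a point under the fusion of the pairs below the maximal one. -/
noncomputable def classOf (v : P) (x : P) : ℂ :=
  if ∃ g : G, g * x * g⁻¹ = v ∧ conjPair g (atBelow hM hmax x) = atBelow hM hmax v then 1 else 0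

theorem classOf_self (v : P) : classOf hM hmax v v = 1 :=
  if_pos ⟨1, by simp, by rw [conjPair_one]⟩

theorem conj_classOf (v x : P) : conj (classOf hM hmax v x) = classOf hM hmax v x := by
  rw [classOf]; split_ifs <;> simp

theorem classOf_one {v : P} (hv : v ≠ 1) : classOf hM hmax v 1 = 0 :=
  if_neg fun ⟨g, h, _⟩ => hv (Subtype.ext (by simpa using h.symm))

theorem isPairStable_classOf (v : P) : IsPairStable p M P e (classOf hM hmax v) := by
  intro x w g a ha h h' he
  have h1 : a = atBelow hM hmax x := below_ext hM hmax h (atBelow_le hM hmax x) ha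
  have h2 : conjPair g a = atBelow hM hmax w := below_ext hM hmax h' (atBelow_le hM hmax w) (by
    rw [conjPair_fst, ha, map_conj_zpowers, he]; rfl)
  subst h1
  refine if_congr ⟨?_, ?_⟩ rfl rfl
  · rintro ⟨t, ht, ht'⟩
    refine ⟨t * g⁻¹, ?_, ?_⟩
    · rw [← ht, ← he]; group
    · rw [← h2, conjPair_conjPair, inv_mul_cancel_right, ht']
  · rintro ⟨t, ht, ht'⟩
    refine ⟨t * g, ?_, ?_⟩
    · rw [← ht, ← he]; group
    · rw [← conjPair_conjPair, h2, ht']

theorem etaOf_atBelow {θ : P → ℂ} (hθ : IsPairStable p M P e θ) (x : P) :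
    etaOf p M P e θ (atBelow hM hmax x) (x : G) = θ x := by
  rw [etaOf_eq hθ rfl (x := 1) (by rw [conjPair_one]; exact atBelow_le hM hmax x) (by simp)]
  exact congrArg θ (Subtype.ext (by simp))

/-- The number of conjugates of a subsection. -/
noncomputable def classCount (v : P) : ℂ :=
  ∑ u ∈ Finset.univ.filter (fun u : G => ∃ n : ℕ, orderOf u = p ^ n),
    ∑ a ∈ pairsAt M (Subgroup.zpowers u), etaOf p M P e (classOf hM hmax v) a u

/-- A sum over the conjugates of a subsection. -/
theorem sum_classOf (v : P) (f : BrauerPairIdx G → G → ℂ)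
    (hf : ∀ t : G, f (conjPair t (atBelow hM hmax v)) (t * v * t⁻¹) = f (atBelow hM hmax v) v) :
    ∑ u ∈ Finset.univ.filter (fun u : G => ∃ n : ℕ, orderOf u = p ^ n),
      ∑ a ∈ pairsAt M (Subgroup.zpowers u), etaOf p M P e (classOf hM hmax v) a u * f a u =
      classCount hM hmax v * f (atBelow hM hmax v) v := by
  rw [classCount, Finset.sum_mul]
  refine Finset.sum_congr rfl fun u _ => ?_
  rw [Finset.sum_mul]
  refine Finset.sum_congr rfl fun a ha => ?_
  by_cases h0 : etaOf p M P e (classOf hM hmax v) a u = 0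
  · rw [h0, zero_mul, zero_mul]
  congr 1
  have hBp : IsBrauerPairOf p M B a.1 a.2 := by
    by_contra hn
    exact h0 (etaOf_eq_zero hM hmax hn)
  have ha1 := (mem_pairsAt.mp ha).1
  obtain ⟨x, hx, hxu⟩ := exists_conj_mem hM hmax ha1 hBp
  rw [etaOf_eq (isPairStable_classOf hM hmax v) ha1 hx hxu, classOf] at h0
  obtain ⟨g, hg, hg'⟩ : ∃ g : G, g * (x * u * x⁻¹) * g⁻¹ = v ∧
      conjPair g (atBelow hM hmax ⟨x * u * x⁻¹, hxu⟩) = atBelow hM hmax v := by
    by_contra hn
    exact h0 (if_neg hn)
  have hxa : conjPair x a = atBelow hM hmax ⟨x * u * x⁻¹, hxu⟩ :=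
    below_ext hM hmax hx (atBelow_le hM hmax _) (by
      rw [conjPair_fst, ha1, map_conj_zpowers]; rfl)
  rw [← hxa, conjPair_conjPair] at hg'
  have e1 : a = conjPair (g * x)⁻¹ (atBelow hM hmax v) := by
    rw [← hg', conjPair_conjPair, inv_mul_cancel, conjPair_one]
  have e2 : u = (g * x)⁻¹ * v * (g * x)⁻¹⁻¹ := by rw [← hg]; group
  rw [e1, e2]
  exact hf _

theorem classCount_ne_zero (v : P) : classCount hM hmax v ≠ 0 := by
  have hre : ∀ (a : BrauerPairIdx G) (u : G),
      0 ≤ (etaOf p M P e (classOf hM hmax v) a u).re := fun a u => by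
    rw [etaOf]; split_ifs
    · rw [classOf]; split_ifs <;> simp
    · simp
  intro h
  have h1 := congrArg Complex.re h
  rw [classCount, Complex.re_sum, Complex.zero_re] at h1
  have h2 := (Finset.sum_eq_zero_iff_of_nonneg fun u _ => by
    rw [Complex.re_sum]; exact Finset.sum_nonneg fun a _ => hre a u).mp h1 (v : G)
    (Finset.mem_filter.mpr ⟨Finset.mem_univ _, orderOf_pow_of_mem hmax.1.1.1 v.2⟩)
  rw [Complex.re_sum] at h2
  have h3 := (Finset.sum_eq_zero_iff_of_nonneg fun a _ => hre a _).mp h2 _ (atBelow_mem hM hmax v)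
  rw [etaOf_atBelow hM hmax (isPairStable_classOf hM hmax v), classOf_self, Complex.one_re] at h3
  exact one_ne_zero h3

/-- The projections at a point are one function times a column. -/
structure IsColumn (v : P) (T : IrrCharacter G → ℂ) (Q : G → ℂ) (m : ℕ) : Prop where
  proj_eq : ∀ χ ∈ B, ∀ s ∈ sect p (v : G),
    proj (atBelow hM hmax v) (v : G) (χ : G → ℂ) s = T χ * Q s
  sum_sq : ∑ χ ∈ CharCore.SubContrib.mems B, T χ * conj (T χ) = (m : ℂ)
  weight : (m : ℂ) * ∑ s ∈ sect p (v : G), Q s * conj (Q s) =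
    (Nat.card (Subgroup.centralizer ({(v : G)} : Set G)) : ℂ)

variable {hM hmax}

variable {v : P} {T : IrrCharacter G → ℂ} {Q : G → ℂ} {m : ℕ}
  (hcol : IsColumn hM hmax v T Q m)
include hcol

theorem IsColumn.m_ne_zero : (m : ℂ) ≠ 0 := by
  intro h
  have := hcol.weight
  rw [h, zero_mul] at this
  exact Nat.card_pos.ne' (Nat.cast_eq_zero.mp this.symm)

theorem IsColumn.exists_Q : ∃ s ∈ sect p (v : G), Q s ≠ 0 := by
  have hne : ∑ s ∈ sect p (v : G), Q s * conj (Q s) ≠ 0 := fun h => by
    have := hcol.weight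
    rw [h, mul_zero] at this
    exact Nat.card_pos.ne' (Nat.cast_eq_zero.mp this.symm)
  obtain ⟨s, hs, hne'⟩ := Finset.exists_ne_zero_of_sum_ne_zero hne
  exact ⟨s, hs, left_ne_zero_of_mul hne'⟩

theorem IsColumn.exists_T : ∃ χ ∈ B, T χ ≠ 0 := by
  obtain ⟨χ, hχ, hne⟩ := Finset.exists_ne_zero_of_sum_ne_zero
    (hcol.sum_sq.symm ▸ hcol.m_ne_zero : ∑ χ ∈ CharCore.SubContrib.mems B, T χ * conj (T χ) ≠ 0)
  exact ⟨χ, CharCore.SubContrib.mem_mems.mp hχ, left_ne_zero_of_mul hne⟩

theorem IsColumn.contribAt_eq {χ ψ : IrrCharacter G} (hχ : χ ∈ B) (hψ : ψ ∈ B) :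
    (m : ℂ) * contribAt p (atBelow hM hmax v) (v : G) (χ : G → ℂ) (ψ : G → ℂ) =
      (Nat.card (Subgroup.centralizer ({(v : G)} : Set G)) : ℂ) * (T χ * conj (T ψ)) := by
  rw [contribAt_eq_sum hM (orderOf_pow_of_mem hmax.1.1.1 v.2) (atBelow_mem hM hmax v)
    (irr_class χ) (irr_class ψ), Finset.sum_congr rfl fun s hs => by
      rw [hcol.proj_eq χ hχ s hs, hcol.proj_eq ψ hψ s hs, map_mul,
        show T χ * Q s * (conj (T ψ) * conj (Q s)) = T χ * conj (T ψ) * (Q s * conj (Q s)) by ring],
    ← Finset.mul_sum, ← hcol.weight]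
  ring

theorem IsColumn.classInner_eq {χ ψ : IrrCharacter G} (hχ : χ ∈ B) (hψ : ψ ∈ B) :
    classInner (starMul p M P e (classOf hM hmax v) (χ : G → ℂ)) (ψ : G → ℂ) =
      classCount hM hmax v * (Nat.card (Subgroup.centralizer ({(v : G)} : Set G)) : ℂ) /
        ((Nat.card G : ℂ) * m) * (T χ * conj (T ψ)) := by
  rw [starMul, classInner_starFun_eq hM,
    sum_classOf hM hmax v (fun a u => contribAt p a u (χ : G → ℂ) (ψ : G → ℂ))
      fun t => contribAt_conjPair (irr_class χ) (irr_class ψ) _ t _]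
  have h := hcol.contribAt_eq (hM := hM) (hmax := hmax) hχ hψ
  have := hcol.m_ne_zero
  field_simp
  linear_combination (classCount hM hmax v) * h

theorem IsColumn.starMul_expand {χ : IrrCharacter G} (hχ : χ ∈ B) (g : G) :
    starMul p M P e (classOf hM hmax v) (χ : G → ℂ) g =
      ∑ ψ ∈ CharCore.SubContrib.mems B,
        classInner (starMul p M P e (classOf hM hmax v) (χ : G → ℂ)) (ψ : G → ℂ) *
          (ψ : G → ℂ) g := by
  have hcl := starMul_isClassFunction hM hmax (isPairStable_classOf hM hmax v) (irr_class χ)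
  conv_lhs => rw [CharCore.eq_sum_classInner hcl]
  simp only [Finset.sum_apply, Pi.smul_apply, smul_eq_mul]
  refine (Finset.sum_subset (Finset.subset_univ _) fun ψ _ hψ => ?_).symm
  rw [classInner_starMul_of_notMem hM hmax fun h => hψ (CharCore.SubContrib.mem_mems.mpr h),
    zero_mul]

/-- The subsection has as many conjugates as its centralizer has cosets. -/
theorem IsColumn.classCount_mul :
    classCount hM hmax v * (Nat.card (Subgroup.centralizer ({(v : G)} : Set G)) : ℂ) =
      (Nat.card G : ℂ) := by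
  obtain ⟨χ, hχ, hT⟩ := hcol.exists_T
  have hm := hcol.m_ne_zero
  have hG : (Nat.card G : ℂ) ≠ 0 := Nat.cast_ne_zero.mpr Nat.card_pos.ne'
  have hC : (Nat.card (Subgroup.centralizer ({(v : G)} : Set G)) : ℂ) ≠ 0 :=
    Nat.cast_ne_zero.mpr Nat.card_pos.ne'
  set k := classCount hM hmax v * (Nat.card (Subgroup.centralizer ({(v : G)} : Set G)) : ℂ) /
    ((Nat.card G : ℂ) * m) with hk
  set f := starMul p M P e (classOf hM hmax v) (χ : G → ℂ) with hf
  have hst := isPairStable_classOf hM hmax v
  have h1 : classInner f f = k * (T χ * conj (T χ)) := by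
    rw [hf, classInner_starMul_starMul hM hmax hst hst (irr_class χ) (irr_class χ),
      show (fun x => conj (classOf hM hmax v x) * classOf hM hmax v x) = classOf hM hmax v from
        funext fun x => by rw [classOf]; split_ifs <;> simp,
      hcol.classInner_eq hχ hχ]
  have h2 : f = fun g => ∑ ψ ∈ CharCore.SubContrib.mems B, classInner f (ψ : G → ℂ) * (ψ : G → ℂ) g :=
    funext fun g => hcol.starMul_expand hχ g
  have h3 : classInner f f = ∑ ψ ∈ CharCore.SubContrib.mems B,
      conj (classInner f (ψ : G → ℂ)) * classInner f (ψ : G → ℂ) := by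
    conv_lhs =>
      arg 2
      rw [h2, show (fun g => ∑ ψ ∈ CharCore.SubContrib.mems B,
          classInner f (ψ : G → ℂ) * (ψ : G → ℂ) g) =
        ∑ ψ ∈ CharCore.SubContrib.mems B, classInner f (ψ : G → ℂ) • (ψ : G → ℂ) from
          funext fun g => by simp [Finset.sum_apply]]
    rw [CharCore.classInner_sum_right]
    exact Finset.sum_congr rfl fun ψ _ => CharCore.classInner_smul_right _ _ _
  have h4 : ∀ ψ ∈ CharCore.SubContrib.mems B,
      conj (classInner f (ψ : G → ℂ)) * classInner f (ψ : G → ℂ) =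
        conj k * k * (T χ * conj (T χ)) * (T ψ * conj (T ψ)) := fun ψ hψ => by
    rw [hf, hcol.classInner_eq hχ (CharCore.SubContrib.mem_mems.mp hψ)]
    simp only [map_mul, Complex.conj_conj, ← hk]
    ring
  rw [Finset.sum_congr rfl h4, ← Finset.mul_sum, hcol.sum_sq, h1] at h3
  have hk0 : k ≠ 0 := div_ne_zero (mul_ne_zero (classCount_ne_zero hM hmax v) hC) (mul_ne_zero hG hm)
  have hT2 : T χ * conj (T χ) ≠ 0 := mul_ne_zero hT ((map_ne_zero _).mpr hT)
  have h5 : conj k * (m : ℂ) = 1 := by
    refine mul_left_cancel₀ (mul_ne_zero hk0 hT2) ?_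
    linear_combination -h3
  have h6 : k * (m : ℂ) = 1 := by simpa using congrArg conj h5
  rw [hk, div_mul_eq_mul_div, div_eq_one_iff_eq (mul_ne_zero hG hm)] at h6
  exact mul_right_cancel₀ hm h6

theorem IsColumn.starMul_eq {χ : IrrCharacter G} (hχ : χ ∈ B) (g : G) :
    starMul p M P e (classOf hM hmax v) (χ : G → ℂ) g =
      T χ / (m : ℂ) * ∑ ψ ∈ CharCore.SubContrib.mems B, conj (T ψ) * (ψ : G → ℂ) g := by
  rw [hcol.starMul_expand hχ, Finset.mul_sum]
  refine Finset.sum_congr rfl fun ψ hψ => ?_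
  rw [hcol.classInner_eq hχ (CharCore.SubContrib.mem_mems.mp hψ), hcol.classCount_mul]
  have hG : (Nat.card G : ℂ) ≠ 0 := Nat.cast_ne_zero.mpr Nat.card_pos.ne'
  field_simp

/-- A column is orthogonal to the members at the regular elements. -/
theorem IsColumn.sum_regular (hv : v ≠ 1) {s : G} (hs : ¬ p ∣ orderOf s) :
    ∑ ψ ∈ CharCore.SubContrib.mems B, conj (T ψ) * (ψ : G → ℂ) s = 0 := by
  obtain ⟨χ, hχ, hT⟩ := hcol.exists_T
  have h := hcol.starMul_eq hχ s
  rw [starMul_regular hM hmax (isPairStable_classOf hM hmax v) hχ hs, classOf_one hM hmax hv,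
    zero_mul] at h
  exact (mul_eq_zero.mp h.symm).resolve_left (div_ne_zero hT hcol.m_ne_zero)

/-- Columns of subsections that are not conjugate are orthogonal. -/
theorem IsColumn.sum_mul {w : P} {T' : IrrCharacter G → ℂ} {Q' : G → ℂ} {m' : ℕ}
    (hcol' : IsColumn hM hmax w T' Q' m') (hne : classOf hM hmax v w = 0) :
    ∑ ψ ∈ CharCore.SubContrib.mems B, conj (T ψ) * T' ψ = 0 := by
  obtain ⟨χ, hχ, hT⟩ := hcol.exists_T
  obtain ⟨s, hs, hQ⟩ := hcol'.exists_Q
  have hst := isPairStable_classOf hM hmax v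
  have h1 := proj_starMul hM hmax hst (irr_class χ) (orderOf_pow_of_mem hmax.1.1.1 w.2)
    (atBelow_mem hM hmax w) (mem_sect.mp hs).1 (mem_sect.mp hs).2
  rw [etaOf_atBelow hM hmax hst, hne, zero_mul,
    show starMul p M P e (classOf hM hmax v) (χ : G → ℂ) = fun g =>
      ∑ ψ ∈ CharCore.SubContrib.mems B, (T χ / (m : ℂ) * conj (T ψ)) * (ψ : G → ℂ) g from
      funext fun g => by
        rw [hcol.starMul_eq hχ, Finset.mul_sum]
        exact Finset.sum_congr rfl fun ψ _ => by ring,
    proj_sum, Finset.sum_congr rfl fun ψ hψ => by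
      rw [hcol'.proj_eq ψ (CharCore.SubContrib.mem_mems.mp hψ) s hs,
        show T χ / (m : ℂ) * conj (T ψ) * (T' ψ * Q' s) =
          (T χ / (m : ℂ) * Q' s) * (conj (T ψ) * T' ψ) by ring], ← Finset.mul_sum] at h1
  exact (mul_eq_zero.mp h1).resolve_left (mul_ne_zero (div_ne_zero hT hcol.m_ne_zero) hQ)

omit hcol

variable (hM hmax)

/-- The class function of a subsection whose central character values are its column. -/
noncomputable def sectionFun (v : P) (g : G) : ℂ :=
  ∑ a ∈ pairsAt M (Subgroup.zpowers (pp p g)),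
    etaOf p M P e (classOf hM hmax v) a (pp p g) * bp a ((pp p g)⁻¹ * g)

theorem sum_sectionFun_mul {F : G → ℂ} (hF : IsClassFunction G F) (v : P) :
    ∑ g : G, sectionFun hM hmax v g * F g =
      classCount hM hmax v * proj (atBelow hM hmax v) (v : G) F 1 := by
  rw [← sum_classOf hM hmax v (fun a u => proj a u F 1) fun t => by
      have := proj_conjPair hF (atBelow hM hmax v) t (v : G) 1
      simpa using this,
    ← Finset.sum_fiberwise_of_maps_to
      (t := Finset.univ.filter fun u : G => ∃ n : ℕ, orderOf u = p ^ n) (g := pp p (G := G))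
      fun g _ => Finset.mem_filter.mpr
        ⟨Finset.mem_univ _, (pp_spec (p := p) g).choose_spec.2.2.1⟩]
  refine Finset.sum_congr rfl fun u hu => ?_
  have hu' := (Finset.mem_filter.mp hu).2
  have hfib : ∑ g ∈ Finset.univ.filter (fun g => pp p g = u), sectionFun hM hmax v g * F g =
      ∑ s ∈ sect p u, sectionFun hM hmax v (u * s) * F (u * s) := by
    refine (Finset.sum_bij (fun s _ => u * s) (fun s hs => Finset.mem_filter.mpr
      ⟨Finset.mem_univ _, pp_mul hu' (mem_sect.mp hs).2
        (Subgroup.mem_centralizer_singleton_iff.mp (mem_sect.mp hs).1).symm⟩)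
      (fun _ _ _ _ h => mul_left_cancel h) (fun g hg => ?_) fun s _ => rfl).symm
    obtain ⟨hc, hr⟩ := regular_inv_pp_mul (p := p) g
    rw [(Finset.mem_filter.mp hg).2] at hc hr
    exact ⟨_, mem_sect.mpr ⟨Subgroup.mem_centralizer_singleton_iff.mpr hc.eq.symm, hr⟩,
      mul_inv_cancel_left u g⟩
  rw [hfib, Finset.sum_congr rfl fun s hs => by
    rw [sectionFun, pp_mul hu' (mem_sect.mp hs).2
      (Subgroup.mem_centralizer_singleton_iff.mp (mem_sect.mp hs).1).symm, inv_mul_cancel_left,
      Finset.sum_mul], Finset.sum_comm]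
  refine Finset.sum_congr rfl fun a ha => ?_
  simp only [mul_assoc, ← Finset.mul_sum]
  congr 1
  obtain ⟨b, hb, hcoe⟩ := exists_block_singleton ha
  rw [proj]
  refine (Finset.sum_congr rfl fun c _ => by rw [mul_one]).trans
    (Finset.sum_subset (Finset.subset_univ _) fun c _ hc => ?_)
  rw [← hcoe]
  by_cases hcu : c ∈ Subgroup.centralizer ({u} : Set G)
  · have hd : p ∣ orderOf c := by
      by_contra hd
      exact hc (mem_sect.mpr ⟨hcu, hd⟩)
    rw [show subgroupBlockCoeff (Subgroup.centralizer ({u} : Set G)) b c = blockCoeff b ⟨c, hcu⟩ from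
        subgroupBlockCoeff_coe _ b ⟨c, hcu⟩,
      blockCoeff_eq_zero_of_dvd_orderOf hM hb (by rwa [← Subgroup.orderOf_coe]), zero_mul]
  · rw [subgroupBlockCoeff_of_notMem _ _ hcu, zero_mul]

theorem isIntClassFun_sectionFun (v : P) : IsIntClassFun M (sectionFun hM hmax v) := by
  refine ⟨fun g t => ?_, fun g => ?_⟩
  · simp only [sectionFun]
    rw [pp_conj]
    refine (Finset.sum_bij (fun a _ => conjPair t a) (fun a ha => ?_) (fun a _ b _ h => ?_)
      (fun a ha => ?_) fun a ha => ?_).symm
    · obtain ⟨h1, h2⟩ := mem_pairsAt.mp ha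
      refine mem_pairsAt.mpr ⟨by rw [conjPair_fst, h1, map_conj_zpowers], ?_⟩
      exact (isBrauerPair_conj hM (x := t) ⟨IsPGroup.of_card (n := (pp_spec (p := p) g).choose_spec.2.2.1.choose)
        (by rw [h1, Nat.card_zpowers]; exact (pp_spec (p := p) g).choose_spec.2.2.1.choose_spec), h2⟩).2
    · have := congrArg (conjPair t⁻¹) h
      simpa [conjPair_conjPair, conjPair_one] using this
    · obtain ⟨h1, h2⟩ := mem_pairsAt.mp ha
      refine ⟨conjPair t⁻¹ a, mem_pairsAt.mpr ⟨by
        rw [conjPair_fst, h1, map_conj_zpowers]; congr 1; group, ?_⟩, by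
        rw [conjPair_conjPair, mul_inv_cancel, conjPair_one]⟩
      have hord : ∃ n : ℕ, orderOf (t * pp p g * t⁻¹) = p ^ n :=
        ⟨_, (orderOf_conjugate _ t).trans (pp_spec (p := p) g).choose_spec.2.2.1.choose_spec⟩
      exact (isBrauerPair_conj hM (x := t⁻¹) ⟨IsPGroup.of_card (n := hord.choose)
        (by rw [h1, Nat.card_zpowers]; exact hord.choose_spec), h2⟩).2
    · rw [etaOf_conj hM hmax (isPairStable_classOf hM hmax v) a t _ ha, bp_conjPair]
      congr 2
      group
  · refine memLocalRing_sum fun a ha => (localRing M).mul_mem ?_ ?_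
    · rw [etaOf]; split_ifs
      · rw [classOf]; split_ifs
        · exact (localRing M).one_mem
        · exact (localRing M).zero_mem
      · exact (localRing M).zero_mem
    · obtain ⟨b, hb, hcoe⟩ := exists_block_singleton ha
      rw [← hcoe]
      by_cases hc : (pp p g)⁻¹ * g ∈ Subgroup.centralizer ({pp p g} : Set G)
      · rw [show subgroupBlockCoeff (Subgroup.centralizer ({pp p g} : Set G)) b ((pp p g)⁻¹ * g) =
          blockCoeff b ⟨_, hc⟩ from subgroupBlockCoeff_coe _ b ⟨_, hc⟩]
        exact (isIntClassFun_blockCoeff hM hb).2 _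
      · rw [subgroupBlockCoeff_of_notMem _ _ hc]
        exact (localRing M).zero_mem

end Cfsg.Agent.BC84.Dihedral
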