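import Cfsg.Agent.BC84.Dihedral.Group
import Cfsg.Agent.BC84.Dihedral.PairColumns
import Cfsg.Agent.Lib.Fusion.Saturation
import Mathlib.GroupTheory.SpecificGroups.Cyclic

/-!
# Rotations of a dihedral defect group and their fusion
-/

set_option autoImplicit false
set_option linter.unusedSectionVars false

namespace Cfsg.Agent.BC84.Dihedral

open BlocksCore BlocksDefect BC85 BC85.Star

universe u

variable {G : Type u} [Group G]

namespace DihData

variable {D : Subgroup G} {r : G} {h : ℕ} (S : DihData D r h)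
include S

theorem two_mul_ne_zero : 2 * h ≠ 0 := by have := S.two_le; omega

/-- The rotation with a given exponent. -/
def rot (c : ZMod (2 * h)) : D := ⟨r ^ c.val, D.pow_mem S.mem _⟩

theorem rot_add (a b : ZMod (2 * h)) : S.rot (a + b) = S.rot a * S.rot b := by
  have : NeZero (2 * h) := ⟨S.two_mul_ne_zero⟩
  refine Subtype.ext ?_
  show r ^ (a + b).val = r ^ a.val * r ^ b.val
  rw [← pow_add, pow_eq_pow_iff_modEq, S.order, ZMod.val_add]
  exact Nat.mod_modEq _ _

theorem rot_zero : S.rot 0 = 1 := by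
  have : NeZero (2 * h) := ⟨S.two_mul_ne_zero⟩
  exact Subtype.ext (by simp [rot])

theorem rot_neg (a : ZMod (2 * h)) : S.rot (-a) = (S.rot a)⁻¹ := by
  refine eq_inv_of_mul_eq_one_left ?_
  rw [← S.rot_add, neg_add_cancel, S.rot_zero]

theorem rot_mem (a : ZMod (2 * h)) : (S.rot a : G) ∈ Subgroup.zpowers r :=
  Subgroup.pow_mem _ (Subgroup.mem_zpowers r) _

theorem rot_injective : Function.Injective S.rot := by
  have : NeZero (2 * h) := ⟨S.two_mul_ne_zero⟩
  intro a b hab
  have h1 : r ^ a.val = r ^ b.val := congrArg Subtype.val hab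
  rw [pow_eq_pow_iff_modEq, S.order] at h1
  refine ZMod.val_injective _ ?_
  rwa [Nat.ModEq, Nat.mod_eq_of_lt (ZMod.val_lt a), Nat.mod_eq_of_lt (ZMod.val_lt b)] at h1

theorem rot_half : (S.rot (h : ZMod (2 * h)) : G) = r ^ h := by
  show r ^ (h : ZMod (2 * h)).val = r ^ h
  rw [ZMod.val_natCast, Nat.mod_eq_of_lt (by have := S.two_le; omega)]

theorem rot_one : (S.rot (1 : ZMod (2 * h)) : G) = r := by
  show r ^ (1 : ZMod (2 * h)).val = r
  rw [show (1 : ZMod (2 * h)) = ((1 : ℕ) : ZMod (2 * h)) by simp, ZMod.val_natCast,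
    Nat.mod_eq_of_lt (by have := S.two_le; omega), pow_one]

theorem rot_ne_one {a : ZMod (2 * h)} (ha : a ≠ 0) : S.rot a ≠ 1 := fun he =>
  ha (S.rot_injective (he.trans S.rot_zero.symm))

/-- An involutive rotation is trivial or the central involution. -/
theorem eq_of_sq {y : G} (hy : y ∈ Subgroup.zpowers r) (h2 : y * y = 1) (h1 : y ≠ 1) : y = r ^ h := by
  obtain ⟨k, hk, rfl⟩ : ∃ k : ℕ, k < 2 * h ∧ r ^ k = y := by
    obtain ⟨c, rfl⟩ := Subgroup.mem_zpowers_iff.mp hy
    refine ⟨(c % (2 * h : ℕ)).toNat, ?_, ?_⟩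
    · have := S.two_le
      have := Int.emod_nonneg c (show ((2 * h : ℕ) : ℤ) ≠ 0 by omega)
      have := Int.emod_lt_of_pos c (show (0 : ℤ) < (2 * h : ℕ) by have := S.two_le; omega)
      omega
    · rw [← zpow_natCast, Int.toNat_of_nonneg (Int.emod_nonneg _ (by have := S.two_le; omega)),
        ← S.order, zpow_mod_orderOf]
  rw [← pow_add] at h2
  obtain ⟨c, hc⟩ := orderOf_dvd_of_pow_eq_one h2
  rw [S.order] at hc
  rcases c with _ | _ | c
  · exact absurd (by rw [show k = 0 by omega, pow_zero]) h1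
  · rw [show k = h by omega]
  · exfalso
    have : 2 * h * 2 ≤ 2 * h * (c + 1 + 1) := Nat.mul_le_mul_left _ (by omega)
    omega

/-- The central involution lies in every nontrivial group of rotations. -/
theorem half_mem {y : G} (hy : y ∈ Subgroup.zpowers r) (h1 : y ≠ 1) :
    r ^ h ∈ Subgroup.zpowers y := by
  obtain ⟨a, -, ha⟩ := S.pow
  -- the first power of two killing `y`
  have hper : y ^ 2 ^ (a + 1) = 1 := by
    obtain ⟨c, rfl⟩ := Subgroup.mem_zpowers_iff.mp hy
    have h0 : r ^ (2 ^ (a + 1)) = 1 := by rw [pow_succ', ← ha, S.pow_period]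
    rw [← zpow_natCast, ← zpow_mul, mul_comm, zpow_mul, zpow_natCast, h0, one_zpow]
  obtain ⟨k, -, hk⟩ := (Nat.dvd_prime_pow Nat.prime_two).mp (orderOf_dvd_of_pow_eq_one hper)
  have hk0 : k ≠ 0 := fun h0 => h1 (orderOf_eq_one_iff.mp (by rw [hk, h0, pow_zero]))
  have hw : y ^ 2 ^ (k - 1) = r ^ h := by
    refine S.eq_of_sq (Subgroup.pow_mem _ hy _) ?_ fun he => ?_
    · rw [← pow_add, ← two_mul, ← pow_succ', Nat.sub_add_cancel (by omega), ← hk, pow_orderOf_eq_one]
    · have := Nat.le_of_dvd (by positivity) (orderOf_dvd_of_pow_eq_one he)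
      rw [hk] at this
      exact absurd this (not_le.mpr (Nat.pow_lt_pow_right (by norm_num) (by omega)))
  exact hw ▸ Subgroup.pow_mem _ (Subgroup.mem_zpowers y) _

/-- There are reflections. -/
theorem exists_refl : ∃ t ∈ D, t ∉ Subgroup.zpowers r := by
  by_contra hn
  push Not at hn
  have : D = Subgroup.zpowers r := le_antisymm hn S.zpowers_le
  have h1 := S.card
  rw [this, S.card_rot] at h1
  have := S.two_le
  omega

theorem isPGroup_aut [Finite G] {y : G} (hy : y ∈ Subgroup.zpowers r) :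
    IsPGroup 2 (MulAut (Subgroup.zpowers y)) := by
  obtain ⟨a, -, ha⟩ := S.pow
  have hdvd : Nat.card (Subgroup.zpowers y) ∣ 2 ^ (a + 1) := by
    rw [pow_succ', ← ha, ← S.card_rot]
    exact Subgroup.card_dvd_of_le (Subgroup.zpowers_le.mpr hy)
  obtain ⟨k, -, hk⟩ := (Nat.dvd_prime_pow Nat.prime_two).mp hdvd
  rcases k with _ | k
  · refine IsPGroup.of_card (n := 0) ?_
    rw [Nat.card_congr (IsCyclic.mulAutMulEquiv (Subgroup.zpowers y)).toEquiv, Nat.card_zpowers] at *
    rw [hk, pow_zero]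
    simp
  · refine IsPGroup.of_card (n := k) ?_
    rw [Nat.card_congr (IsCyclic.mulAutMulEquiv (Subgroup.zpowers y)).toEquiv, hk]
    have : NeZero (2 ^ (k + 1)) := ⟨pow_ne_zero _ two_ne_zero⟩
    rw [Nat.card_eq_fintype_card, ZMod.card_units_eq_totient,
      Nat.totient_prime_pow Nat.prime_two (Nat.succ_pos k)]
    simp

end DihData

variable [Fintype G] [Fact (Nat.Prime 2)] {M : Ideal AlgInt} [hP : M.IsPrime]
  (hM : IsPModular 2 M) {B : Set (IrrCharacter G)} {D : Subgroup G}
  {e : Set (IrrCharacter (Subgroup.centralizer (D : Set G)))}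
  (hmax : IsMaximalBrauerPair 2 M B D e) {r : G} {h : ℕ} (S : DihData D r h)
include hM hmax S

/-- Rotations are only conjugate to themselves and to their inverses below the maximal pair. -/
theorem classOf_rot_eq_zero {c c' : ZMod (2 * h)} (hc : c ≠ 0) (hne : c' ≠ c) (hne' : c' ≠ -c) :
    classOf hM hmax (S.rot c) (S.rot c') = 0 := by
  classical
  refine if_neg ?_
  rintro ⟨g, hg, hg'⟩
  set y := (S.rot c : G) with hy
  set y' := (S.rot c' : G) with hy'
  have hyr : y ∈ Subgroup.zpowers r := S.rot_mem c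
  have hyr' : y' ∈ Subgroup.zpowers r := S.rot_mem c'
  have hy1 : y ≠ 1 := fun he => S.rot_ne_one hc (Subtype.ext he)
  have hord : orderOf y = orderOf y' := by rw [← hg, orderOf_conjugate]
  have heq : Subgroup.zpowers y' = Subgroup.zpowers y :=
    ZStar.Dih.zpowers_eq_of_orderOf_eq hyr' hyr hord.symm
  by_cases hy2 : y * y = 1
  · have hy'1 : y' ≠ 1 := fun he => hy1 (orderOf_eq_one_iff.mp (by rw [hord, he, orderOf_one]))
    have hy'2 : y' * y' = 1 := by
      have : y' = g⁻¹ * y * g := by rw [← hg]; group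
      rw [this, show g⁻¹ * y * g * (g⁻¹ * y * g) = g⁻¹ * (y * y) * g by group, hy2]; group
    exact hne (S.rot_injective (Subtype.ext
      ((S.eq_of_sq hyr' hy'2 hy'1).trans (S.eq_of_sq hyr hy2 hy1).symm)))
  -- the element `g` stabilizes the pair at the common subgroup
  have hsame : atBelow hM hmax (S.rot c') = atBelow hM hmax (S.rot c) :=
    below_ext hM hmax (atBelow_le hM hmax _) (atBelow_le hM hmax _) heq
  rw [hsame] at hg'
  have hstab : g ∈ stabT (Subgroup.zpowers y) (atBelow hM hmax (S.rot c)).2 :=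
    conjPair_eq_self_iff.mp hg'
  have hF := isBlockFusionSystemOn_blockFusion hM hmax
  have hQD : Subgroup.zpowers y ≤ D := Subgroup.zpowers_le.mpr (S.rot c).2
  have hnorm : D ≤ Subgroup.normalizer ((Subgroup.zpowers y : Subgroup G) : Set G) := by
    intro x hx
    refine Subgroup.mem_normalizer_iff.mpr fun w => ?_
    have hconj : ∀ v : G, v ∈ D → ∀ w ∈ Subgroup.zpowers y, v * w * v⁻¹ ∈ Subgroup.zpowers y := by
      intro v hv w hw
      obtain ⟨k, rfl⟩ := Subgroup.mem_zpowers_iff.mp hw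
      rw [← conj_zpow]
      rcases S.conj_rot hv hyr with he | he <;> rw [he]
      · exact Subgroup.zpow_mem _ (Subgroup.mem_zpowers y) k
      · exact Subgroup.zpow_mem _ (inv_mem (Subgroup.mem_zpowers y)) k
    refine ⟨hconj x hx w, fun hw => ?_⟩
    have := hconj x⁻¹ (inv_mem hx) _ hw
    simpa [mul_assoc] using this
  have hfn : (blockFusion hM hmax.1.1).IsFullyNormalized (Subgroup.zpowers y) := by
    refine ⟨hQD, fun R _ => ?_⟩
    rw [FusionSystem.normalizerIn, FusionSystem.normalizerIn, inf_eq_left.mpr hnorm]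
    exact Subgroup.card_le_of_le inf_le_left
  obtain ⟨-, R, hR⟩ := Fusion.fullyAutomized_of_fullyNormalized hmax.1.1.1
    (blockFusion_isSaturated hM hF) hfn
  have hgN : g ∈ Subgroup.normalizer ((Subgroup.zpowers y : Subgroup G) : Set G) := hstab.1
  set α := Fusion.conjAutHom ⊤ (Subgroup.zpowers y) ⟨g, trivial, hgN⟩ with hα
  have hαmem : α ∈ (blockFusion hM hmax.1.1).autGroup (Subgroup.zpowers y) := by
    rw [autGroup_eq hM hF (Q := Subgroup.zpowers y) (f := (atBelow hM hmax (S.rot c)).2)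
      (atBelow_le hM hmax (S.rot c)), Fusion.mem_autInducedBy]
    exact ⟨g, hstab, fun q => rfl⟩
  have htop : (R : Subgroup ((blockFusion hM hmax.1.1).autGroup (Subgroup.zpowers y))) = ⊤ :=
    (R.is_maximal' (((S.isPGroup_aut hyr).to_subgroup _).to_subgroup ⊤) le_top).symm
  have hin : (⟨α, hαmem⟩ : (blockFusion hM hmax.1.1).autGroup (Subgroup.zpowers y)) ∈
      (R : Subgroup ((blockFusion hM hmax.1.1).autGroup (Subgroup.zpowers y))) := by
    rw [htop]; exact Subgroup.mem_top _
  rw [hR, Subgroup.mem_subgroupOf] at hin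
  obtain ⟨t, ht, htt⟩ := Fusion.mem_autInducedBy.mp hin
  have h1 : g * y' * g⁻¹ = t * y' * t⁻¹ :=
    htt ⟨y', heq ▸ Subgroup.mem_zpowers y'⟩
  rw [show g * y' * g⁻¹ = y from hg] at h1
  rcases S.conj_rot ht hyr' with he | he
  · rw [he] at h1
    exact hne (S.rot_injective (Subtype.ext h1.symm))
  · rw [he] at h1
    refine hne' ?_
    rw [eq_neg_iff_add_eq_zero]
    refine S.rot_injective (Subtype.ext ?_)
    rw [S.rot_add, S.rot_zero, Subgroup.coe_mul, Subgroup.coe_one, ← hy, ← hy', h1, mul_inv_cancel]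

end Cfsg.Agent.BC84.Dihedral
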