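import Cfsg.Agent.BC84.Dihedral.LocalColumns
import Cfsg.Agent.BC84.Dihedral.Rotations
import Cfsg.Agent.BC84.Dihedral.Fourier
import Cfsg.Agent.BC85.Basic

/-!
# The columns of a block with dihedral defect group at the rotations
-/

set_option autoImplicit false
set_option linter.unusedSectionVars false
set_option linter.style.haveILetI false

namespace Cfsg.Agent.BC84.Dihedral

open BlocksCore BlocksDefect BC85 BC85.Star
open scoped Classical ComplexConjugate

universe u

variable {G : Type u} [Group G] [Fintype G] [Fact (Nat.Prime 2)] {M : Ideal AlgInt}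
  [hP : M.IsPrime]

theorem natCard_centralizer_point {D : Subgroup G} (x : D) :
    Nat.card (Subgroup.centralizer ({x} : Set D)) =
      Nat.card (D ⊓ Subgroup.centralizer ({(x : G)} : Set G) : Subgroup G) :=
  Nat.card_congr
    { toFun := fun c => ⟨((c : D) : G), (c : D).2, Subgroup.mem_centralizer_singleton_iff.mpr
        (congrArg Subtype.val (Subgroup.mem_centralizer_singleton_iff.mp c.2))⟩
      invFun := fun c => ⟨⟨c.1, c.2.1⟩, Subgroup.mem_centralizer_singleton_iff.mpr
        (Subtype.ext (Subgroup.mem_centralizer_singleton_iff.mp c.2.2))⟩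
      left_inv := fun _ => rfl
      right_inv := fun _ => rfl }

/-- What the columns at the rotations give. -/
structure RotColumns (hM : IsPModular 2 M) {B : Set (IrrCharacter G)} {D : Subgroup G}
    {e : Set (IrrCharacter (Subgroup.centralizer (D : Set G)))}
    (hmax : IsMaximalBrauerPair 2 M B D e) {r : G} {h : ℕ} [NeZero (2 * h)] (S : DihData D r h)
    (Θ : IrrCharacter G → ZMod (2 * h) → ℂ) (A : IrrCharacter G → ZMod (2 * h) → ℕ) : Prop where
  symm : ∀ χ c, Θ χ (-c) = Θ χ c
  real : ∀ χ c, conj (Θ χ c) = Θ χ c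
  coeff : ∀ χ j, ((2 * h : ℕ) : ℂ) * (A χ j : ℂ) =
    ∑ c : ZMod (2 * h), Θ χ c * ZMod.stdAddChar (-(c * j))
  col : ∀ c : ZMod (2 * h), c ≠ 0 → ∃ Q, IsColumn hM hmax (S.rot c) (fun χ => Θ χ c) Q
    (if c = (h : ZMod (2 * h)) then 4 * h else 2 * h)
  col_half : ∃ (Q : G → ℂ) (f : ℕ) (d : ℤ),
    IsColumn hM hmax (S.rot (h : ZMod (2 * h))) (fun χ => Θ χ (h : ZMod (2 * h))) Q (4 * h) ∧
      ¬ (2 : ℤ) ∣ d ∧ Q 1 = (((2 : ℤ) ^ f * d : ℤ) : ℂ) ∧
      4 * h * 2 ^ f = 2 ^ (Nat.card (Subgroup.centralizer ({r ^ h} : Set G))).factorization 2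

theorem exists_rotColumns (hM : IsPModular 2 M) {B : Set (IrrCharacter G)} {D : Subgroup G}
    {e : Set (IrrCharacter (Subgroup.centralizer (D : Set G)))}
    (hmax : IsMaximalBrauerPair 2 M B D e) {r : G} {h : ℕ} [NeZero (2 * h)] (S : DihData D r h) :
    ∃ Θ A, RotColumns hM hmax S Θ A := by
  set z : D := ⟨r ^ h, D.pow_mem S.mem h⟩ with hz
  have hDK : D ≤ Subgroup.centralizer ((Subgroup.zpowers (z : G) : Subgroup G) : Set G) :=
    S.le_centralizer
  have hfc : (blockFusion hM hmax.1.1).IsFullyCentralized (Subgroup.zpowers (z : G)) := by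
    refine ⟨Subgroup.zpowers_le.mpr z.2, fun R _ => ?_⟩
    rw [FusionSystem.centralizerIn, FusionSystem.centralizerIn, inf_eq_left.mpr hDK]
    exact Subgroup.card_le_of_le inf_le_left
  obtain ⟨e', hmax', hlift⟩ := exists_local_max hM hmax z hfc
  have hloc : locD D (z : G) = D.subgroupOf _ := by
    rw [locD, inf_eq_left.mpr hDK]
  have S' : DihData (locD D (z : G)) (⟨r, hDK S.mem⟩ : Subgroup.centralizer _) h := by
    rw [hloc]; exact S.subgroupOf hDK
  have hcen : (⟨r, hDK S.mem⟩ : Subgroup.centralizer ((Subgroup.zpowers (z : G) : Subgroup G) : Set G)) ^ h ∈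
      Subgroup.center _ := by
    refine Subgroup.mem_center_iff.mpr fun k => Subtype.ext ?_
    rw [Subgroup.coe_mul, Subgroup.coe_mul, Subgroup.coe_pow]
    exact (Subgroup.mem_centralizer_iff.mp k.2 _ (Subgroup.mem_zpowers _)).symm
  have hnil := nilpotent_of_central hM hmax' S' hcen
  obtain ⟨η₀, Θ', Q', hη₀, h0, hchar, hcol, hval⟩ :=
    exists_local_columns hM hmax z hmax' hlift hnil
  -- the identification of `D` with its copy in the centralizer
  let ι : D →* locD D (z : G) :=
    { toFun := fun y => ⟨⟨y, hDK y.2⟩, ⟨y.2, hDK y.2⟩⟩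
      map_one' := rfl
      map_mul' := fun _ _ => rfl }
  have hto : ∀ y : D, toD (ι y) = y := fun y => rfl
  have hιc : ∀ y : D, Nat.card (Subgroup.centralizer ({ι y} : Set (locD D (z : G)))) =
      Nat.card (D ⊓ Subgroup.centralizer ({(y : G)} : Set G) : Subgroup G) := by
    intro y
    rw [← natCard_centralizer_point y]
    exact Nat.card_congr
      { toFun := fun c => ⟨toD (c : locD D (z : G)), Subgroup.mem_centralizer_singleton_iff.mpr
          (congrArg toD (Subgroup.mem_centralizer_singleton_iff.mp c.2) :)⟩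
        invFun := fun c => ⟨ι c, Subgroup.mem_centralizer_singleton_iff.mpr (by
          rw [← map_mul, ← map_mul, Subgroup.mem_centralizer_singleton_iff.mp c.2])⟩
        left_inv := fun _ => rfl
        right_inv := fun _ => rfl }
  let ρ : Multiplicative (ZMod (2 * h)) →* locD D (z : G) :=
    ι.comp { toFun := fun c => S.rot c.toAdd
             map_one' := S.rot_zero
             map_mul' := fun a b => S.rot_add a.toAdd b.toAdd }
  let Θ : IrrCharacter G → ZMod (2 * h) → ℂ := fun χ c => Θ' χ (ρ (Multiplicative.ofAdd c))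
  have hchar' : ∀ χ, IsCharacter (Multiplicative (ZMod (2 * h))) fun x => Θ χ x.toAdd :=
    fun χ => CharCore.isCharacter_comp (hchar χ) ρ
  choose A hA using fun χ => exists_coeff (Θ χ) (hchar' χ)
  refine ⟨Θ, A, ?_, ?_, hA, ?_, ?_⟩
  · intro χ c
    obtain ⟨t, ht, htr⟩ := S.exists_refl
    show Θ' χ (ι (S.rot (-c))) = Θ' χ (ι (S.rot c))
    rw [← CharCore.IsCharacter.isClassFunction (hchar χ) (ι (S.rot c)) (ι ⟨t, ht⟩), ← map_inv,
      ← map_mul, ← map_mul]
    refine congrArg (fun y => Θ' χ (ι y)) (Subtype.ext ?_)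
    rw [S.rot_neg]
    push_cast
    show (r ^ c.val)⁻¹ = t * r ^ c.val * t⁻¹
    rw [← zpow_natCast]
    exact (S.flip_zpow ht htr ((c.val : ℕ) : ℤ)).symm
  · intro χ c
    obtain ⟨t, ht, htr⟩ := S.exists_refl
    show conj (Θ' χ (ι (S.rot c))) = _
    rw [← CharCore.IsCharacter.apply_inv (hchar χ), ← map_inv, ← S.rot_neg]
    show Θ' χ (ι (S.rot (-c))) = Θ' χ (ι (S.rot c))
    rw [← CharCore.IsCharacter.isClassFunction (hchar χ) (ι (S.rot c)) (ι ⟨t, ht⟩), ← map_inv,
      ← map_mul, ← map_mul]
    refine congrArg (fun y => Θ' χ (ι y)) (Subtype.ext ?_)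
    rw [S.rot_neg]
    push_cast
    show (r ^ c.val)⁻¹ = t * r ^ c.val * t⁻¹
    rw [← zpow_natCast]
    exact (S.flip_zpow ht htr ((c.val : ℕ) : ℤ)).symm
  · intro c hc
    have hmem : (z : G) ∈ Subgroup.zpowers (toD (ι (S.rot c)) : G) :=
      S.half_mem (S.rot_mem c) fun he => S.rot_ne_one hc (Subtype.ext he)
    refine ⟨Q' (ι (S.rot c)), ?_⟩
    have hcol' := hcol (ι (S.rot c)) hmem
    rw [hto, hιc] at hcol'
    rw [show (if c = (h : ZMod (2 * h)) then 4 * h else 2 * h) = Nat.card
        (D ⊓ Subgroup.centralizer ({(S.rot c : G)} : Set G) : Subgroup G) from ?_]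
    · exact hcol'
    split_ifs with hch
    · rw [hch, inf_eq_left.mpr, S.card]
      rw [S.rot_half]
      exact fun x hx => Subgroup.mem_centralizer_singleton_iff.mpr (S.commute_half hx).eq
    · rw [S.centralizer_inf (S.rot_mem c), S.card_rot]
      intro h2
      exact hch (S.rot_injective (Subtype.ext ((S.eq_of_sq (S.rot_mem c) h2
        fun he => S.rot_ne_one hc (Subtype.ext he)).trans S.rot_half.symm)))
  · have hzc : S.rot (h : ZMod (2 * h)) = z := Subtype.ext S.rot_half
    have hmem : (z : G) ∈ Subgroup.zpowers (toD (ι z) : G) := Subgroup.mem_zpowers _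
    have hcol' := hcol (ι z) hmem
    rw [hto, hιc, inf_eq_left.mpr (fun x hx => Subgroup.mem_centralizer_singleton_iff.mpr
      (S.commute_half hx).eq), S.card] at hcol'
    have hQ1 := hval (ι z) (hto z) 1 (one_mem_sect _)
    -- the value at the centre is a sign
    have hzz : ((ι z : locD D (z : G)) : (Subgroup.centralizer ((Subgroup.zpowers (z : G) : Subgroup G) : Set G))) * (ι z : locD D (z : G)) = 1 :=
      Subtype.ext S.pow_mul_self
    have hzcen : ((ι z : locD D (z : G)) : (Subgroup.centralizer ((Subgroup.zpowers (z : G) : Subgroup G) : Set G))) ∈ Subgroup.center (Subgroup.centralizer ((Subgroup.zpowers (z : G) : Subgroup G) : Set G)) := by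
      refine Subgroup.mem_center_iff.mpr fun k => Subtype.ext ?_
      exact (Subgroup.mem_centralizer_iff.mp k.2 _ (Subgroup.mem_zpowers _)).symm
    have hsq : cval η₀ ((ι z : locD D (z : G)) : (Subgroup.centralizer ((Subgroup.zpowers (z : G) : Subgroup G) : Set G))) ^ 2 = 1 := by
      rw [← cval_pow η₀ hzcen, pow_two, hzz, cval_one]
    obtain ⟨σ, hσ, hσv⟩ : ∃ σ : ℤ, (σ = 1 ∨ σ = -1) ∧ cval η₀ ((ι z : locD D (z : G)) : (Subgroup.centralizer ((Subgroup.zpowers (z : G) : Subgroup G) : Set G))) = σ := by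
      rcases sq_eq_one_iff.mp hsq with h' | h'
      · exact ⟨1, Or.inl rfl, by rw [h', Int.cast_one]⟩
      · exact ⟨-1, Or.inr rfl, by rw [h']; simp⟩
    set deg := charDegree (η₀ : (Subgroup.centralizer ((Subgroup.zpowers (z : G) : Subgroup G) : Set G)) → ℂ) with hdeg
    refine ⟨Q' (ι z), deg.factorization 2, σ * (deg / 2 ^ deg.factorization 2 : ℕ), ?_, ?_, ?_, ?_⟩
    · show IsColumn hM hmax (S.rot (h : ZMod (2 * h)))
        (fun χ => Θ' χ (ι (S.rot (h : ZMod (2 * h))))) _ _
      rw [hzc]
      exact hcol'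
    · have hnd : ¬ 2 ∣ deg / 2 ^ deg.factorization 2 :=
        Nat.not_dvd_ordCompl Nat.prime_two (charDegree_pos η₀).ne'
      rcases hσ with rfl | rfl <;> simp only [one_mul, neg_one_mul, dvd_neg] <;> omega
    · rw [show Q' (ι z) 1 = Q' (ι z) ((1 : (Subgroup.centralizer ((Subgroup.zpowers (z : G) : Subgroup G) : Set G))) : G) from rfl, hQ1, hσv, irr_one_eq, ← hdeg]
      conv_lhs => rw [← Nat.ordProj_mul_ordCompl_eq_self deg 2]
      generalize deg / 2 ^ deg.factorization 2 = w
      push_cast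
      ring
    · have hbd : blockDefect 2 (locB hM hmax z) = (Nat.card (Subgroup.centralizer ((Subgroup.zpowers (z : G) : Subgroup G) : Set G))).factorization 2 -
          sInf ((fun χ : IrrCharacter (Subgroup.centralizer ((Subgroup.zpowers (z : G) : Subgroup G) : Set G)) => (charDegree (χ : (Subgroup.centralizer ((Subgroup.zpowers (z : G) : Subgroup G) : Set G)) → ℂ)).factorization 2) ''
            locB hM hmax z) := rfl
      have h1 : deg.factorization 2 = sInf ((fun χ : IrrCharacter (Subgroup.centralizer ((Subgroup.zpowers (z : G) : Subgroup G) : Set G)) =>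
          (charDegree (χ : (Subgroup.centralizer ((Subgroup.zpowers (z : G) : Subgroup G) : Set G)) → ℂ)).factorization 2) '' locB hM hmax z) := by
        refine le_antisymm ?_ (BC85.sInf_le_degree hη₀)
        have : deg.factorization 2 - sInf ((fun χ : IrrCharacter (Subgroup.centralizer ((Subgroup.zpowers (z : G) : Subgroup G) : Set G)) =>
          (charDegree (χ : (Subgroup.centralizer ((Subgroup.zpowers (z : G) : Subgroup G) : Set G)) → ℂ)).factorization 2) '' locB hM hmax z) = 0 := h0
        omega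
      have h2 : deg.factorization 2 ≤ (Nat.card (Subgroup.centralizer ((Subgroup.zpowers (z : G) : Subgroup G) : Set G))).factorization 2 := BC85.degree_factorization_le η₀
      have hcard : Nat.card (locD D (z : G)) = 2 ^ blockDefect 2 (locB hM hmax z) :=
        defectGroup_natCard hM hnil.1 (isDefectGroup_of_maximal hM hmax')
      rw [S'.card] at hcard
      rw [hcard, ← pow_add, show Nat.card (Subgroup.centralizer ({r ^ h} : Set G)) = Nat.card (Subgroup.centralizer ((Subgroup.zpowers (z : G) : Subgroup G) : Set G)) by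
        rw [← BlocksCore.centralizer_zpowers]]
      congr 1
      omega

namespace RotColumns

variable {hM : IsPModular 2 M} {B : Set (IrrCharacter G)} {D : Subgroup G}
  {e : Set (IrrCharacter (Subgroup.centralizer (D : Set G)))}
  {hmax : IsMaximalBrauerPair 2 M B D e} {r : G} {h : ℕ} [NeZero (2 * h)] {S : DihData D r h}
  {Θ : IrrCharacter G → ZMod (2 * h) → ℂ} {A : IrrCharacter G → ZMod (2 * h) → ℕ}
  (R : RotColumns hM hmax S Θ A)
include R

/-- The columns at the rotations are orthogonal up to inversion. -/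
theorem orth {c c' : ZMod (2 * h)} (hc : c ≠ 0) (hc' : c' ≠ 0) :
    ∑ χ ∈ CharCore.SubContrib.mems B, Θ χ c * Θ χ c' =
      ((2 * h : ℕ) : ℂ) * ((if c' = c then 1 else 0) + if c' = -c then 1 else 0) := by
  obtain ⟨Q, hQ⟩ := R.col c hc
  obtain ⟨Q', hQ'⟩ := R.col c' hc'
  by_cases he : c' = c ∨ c' = -c
  · have hval : ∑ χ ∈ CharCore.SubContrib.mems B, Θ χ c * Θ χ c' =
        ∑ χ ∈ CharCore.SubContrib.mems B, Θ χ c * conj (Θ χ c) := by
      refine Finset.sum_congr rfl fun χ _ => ?_
      rw [R.real]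
      rcases he with he | he
      · rw [he]
      · rw [he, R.symm]
    rw [hval, hQ.sum_sq]
    by_cases hch : c = (h : ZMod (2 * h))
    · have hneg : -(h : ZMod (2 * h)) = (h : ZMod (2 * h)) := by
        rw [neg_eq_iff_add_eq_zero, ← Nat.cast_add, ← two_mul, ZMod.natCast_self]
      have hc'h : c' = c := by rcases he with he | he <;> simp [he, hch, hneg]
      rw [if_pos hch, if_pos hc'h, if_pos (by rw [hc'h, hch, hneg])]
      push_cast; ring
    · rw [if_neg hch]
      have hnn : c ≠ -c := fun hcc => by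
        have h2 : S.rot c * S.rot c = 1 := by
          rw [← S.rot_add, show c + c = 0 from by nth_rw 2 [hcc]; exact add_neg_cancel c, S.rot_zero]
        exact hch (S.rot_injective (Subtype.ext ((S.eq_of_sq (S.rot_mem c) (congrArg Subtype.val h2)
          fun hc1 => S.rot_ne_one hc (Subtype.ext hc1)).trans S.rot_half.symm)))
      rcases he with rfl | rfl
      · rw [if_pos rfl, if_neg hnn]; simp
      · rw [if_neg (Ne.symm hnn), if_pos rfl]; simp
  · rw [not_or] at he
    rw [if_neg he.1, if_neg he.2, add_zero, mul_zero]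
    have := hQ.sum_mul hQ' (classOf_rot_eq_zero hM hmax S hc he.1 he.2)
    simpa only [R.real] using this

theorem orth_regular {c : ZMod (2 * h)} (hc : c ≠ 0) {s : G} (hs : ¬ 2 ∣ orderOf s) :
    ∑ χ ∈ CharCore.SubContrib.mems B, Θ χ c * (χ : G → ℂ) s = 0 := by
  obtain ⟨Q, hQ⟩ := R.col c hc
  have := hQ.sum_regular (S.rot_ne_one hc) hs
  simpa only [R.real] using this

/-- The value at the central involution is a rational integer. -/
theorem exists_int : ∃ T : IrrCharacter G → ℤ, ∀ χ, Θ χ (h : ZMod (2 * h)) = (T χ : ℂ) ∧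
    (2 : ℤ) ∣ T χ - ((A χ 0 : ℤ) - A χ (h : ZMod (2 * h))) := by
  refine ⟨fun χ => ∑ j : ZMod (2 * h), (if Even j.val then 1 else -1) * (A χ j : ℤ), fun χ => ⟨?_, ?_⟩⟩
  · rw [coeff_inversion (R.coeff χ), Int.cast_sum]
    refine Finset.sum_congr rfl fun j _ => ?_
    have hj : (ZMod.stdAddChar (j * (h : ZMod (2 * h))) : ℂ) = (-1) ^ j.val := by
      rw [← stdAddChar_half (h := h), ← AddChar.map_nsmul_eq_pow, nsmul_eq_mul, ZMod.natCast_zmod_val]
    rw [hj]
    rcases Nat.even_or_odd j.val with he | he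
    · rw [if_pos he, he.neg_one_pow]; push_cast; ring
    · rw [if_neg (Nat.not_even_iff_odd.mpr he), he.neg_one_pow]; push_cast; ring
  · refine (ZMod.intCast_zmod_eq_zero_iff_dvd _ 2).mp ?_
    push_cast
    simp only [show (-1 : ZMod 2) = 1 from rfl, ite_self, one_mul,
      ZMod.neg_eq_self_mod_two, sub_eq_add_neg]
    have hne : (0 : ZMod (2 * h)) ≠ (h : ZMod (2 * h)) := fun he =>
      S.pow_half_ne_one (by rw [← S.rot_half, ← he, S.rot_zero]; rfl)
    have hneg : -(h : ZMod (2 * h)) = (h : ZMod (2 * h)) := by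
      rw [neg_eq_iff_add_eq_zero, ← Nat.cast_add, ← two_mul, ZMod.natCast_self]
    rw [← Finset.sum_sdiff (Finset.subset_univ {(0 : ZMod (2 * h)), (h : ZMod (2 * h))}),
      Finset.sum_pair hne]
    suffices ∑ j ∈ Finset.univ \ {(0 : ZMod (2 * h)), (h : ZMod (2 * h))}, (A χ j : ZMod 2) = 0 by
      rw [this, zero_add]
      exact CharTwo.add_self_eq_zero _
    refine Finset.sum_involution (fun j _ => -j) (fun j _ => ?_) (fun j hj _ hjj => ?_)
      (fun j hj => ?_) fun j _ => neg_neg j
    · rw [coeff_symm (R.coeff χ) (R.symm χ)]; exact CharTwo.add_self_eq_zero _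
    · have h2 : S.rot j * S.rot j = 1 := by
        rw [← S.rot_add, show j + j = 0 from neg_eq_iff_add_eq_zero.mp hjj, S.rot_zero]
      by_cases hj0 : j = 0
      · simp [hj0] at hj
      · have : j = (h : ZMod (2 * h)) := S.rot_injective (Subtype.ext
          ((S.eq_of_sq (S.rot_mem j) (congrArg Subtype.val h2)
            fun hc1 => S.rot_ne_one hj0 (Subtype.ext hc1)).trans S.rot_half.symm))
        simp [this] at hj
    · simp only [Finset.mem_sdiff, Finset.mem_univ, true_and, Finset.mem_insert,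
        Finset.mem_singleton, not_or] at hj ⊢
      exact ⟨neg_ne_zero.mpr hj.1, fun he => hj.2 (by rw [← neg_neg j, he, hneg])⟩

end RotColumns

end Cfsg.Agent.BC84.Dihedral
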