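import Mathlib.Data.ZMod.Basic
import Mathlib.Data.Real.Basic
import Mathlib.Data.Complex.Basic
import Mathlib.LinearAlgebra.Dimension.Constructions
import Mathlib.LinearAlgebra.Matrix.NonsingularInverse
import Mathlib.LinearAlgebra.FiniteDimensional.Basic
import Mathlib.Tactic

/-!
# The integral relations of a block with dihedral defect group

`a x j` is the `j`-th coefficient at the member `x` of the restriction to the cyclic subgroup of
order `2 h`; only the differences are constrained. `T` is the value at the central involution,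
`ht` the height and `deg` the degree.
-/

set_option autoImplicit false

namespace Cfsg.Agent.BC84.Dihedral

/-- The scalar product of two coefficient columns. -/
def br {N : ℕ} (i j : ZMod N) : ℤ := (if i = j then 1 else 0) + (if i = -j then 1 else 0)

/-- The integral relations. -/
structure CountData (ι : Type*) [Fintype ι] (h : ℕ) where
  a : ι → ZMod (2 * h) → ℤ
  T : ι → ℤ
  ht : ι → ℕ
  deg : ι → ℤ
  two_le : 2 ≤ h
  gram : ∀ i j k l, ∑ x, (a x i - a x j) * (a x k - a x l) = br i k - br i l - br j k + br j l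
  par : ∀ x, (2 : ℤ) ∣ T x - (a x 0 - a x (h : ℕ))
  val : ∀ x, ∃ m : ℤ, ¬ (2 : ℤ) ∣ m ∧ T x = 2 ^ ht x * m
  sumT : ∑ x, T x ^ 2 = 4 * (h : ℤ)
  deg_pos : ∀ x, 0 < deg x
  deg_orth : ∀ i j, ∑ x, (a x i - a x j) * deg x = 0
  zero : ∃ x, ht x = 0
  low : h + 1 ≤ Fintype.card ι

namespace CountData

variable {ι : Type*} [Fintype ι] {h : ℕ} (S : CountData ι h)

/-- The difference of the two real columns. -/
def g (x : ι) : ℤ := S.a x 0 - S.a x (h : ℕ)

/-- The difference of two coefficient columns. -/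
def d (i j : ℕ) (x : ι) : ℤ := S.a x (i : ℕ) - S.a x (j : ℕ)

theorem br_nat (hh : 2 ≤ h) {i j : ℕ} (hi : i ≤ h) (hj : j ≤ h) :
    br (i : ZMod (2 * h)) (j : ZMod (2 * h)) =
      if i = j then (if i = 0 ∨ i = h then 2 else 1) else 0 := by
  have e1 : ((i : ZMod (2 * h)) = (j : ZMod (2 * h))) ↔ i = j := by
    rw [ZMod.natCast_eq_natCast_iff', Nat.mod_eq_of_lt (by omega), Nat.mod_eq_of_lt (by omega)]
  have e2 : ((i : ZMod (2 * h)) = -(j : ZMod (2 * h))) ↔ (i = j ∧ (i = 0 ∨ i = h)) := by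
    rw [eq_neg_iff_add_eq_zero, ← Nat.cast_add, ZMod.natCast_eq_zero_iff]
    constructor
    · rintro ⟨c, hc⟩
      rcases c with _ | _ | c
      · omega
      · omega
      · exfalso
        have : 2 * h * 2 ≤ 2 * h * (c + 1 + 1) := Nat.mul_le_mul_left _ (by omega)
        omega
    · rintro ⟨rfl, rfl | rfl⟩
      · simp
      · exact ⟨1, by omega⟩
  simp only [br, e1, e2]
  split_ifs <;> simp_all

include S

theorem sum_d_mul {i j k l : ℕ} (hi : i ≤ h) (hj : j ≤ h) (hk : k ≤ h) (hl : l ≤ h) :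
    ∑ x, S.d i j x * S.d k l x =
      (if i = k then (if i = 0 ∨ i = h then (2 : ℤ) else 1) else 0) -
      (if i = l then (if i = 0 ∨ i = h then 2 else 1) else 0) -
      (if j = k then (if j = 0 ∨ j = h then 2 else 1) else 0) +
      (if j = l then (if j = 0 ∨ j = h then 2 else 1) else 0) := by
  simp only [d]
  rw [S.gram, br_nat S.two_le hi hk, br_nat S.two_le hi hl, br_nat S.two_le hj hk,
    br_nat S.two_le hj hl]

theorem g_eq_d : S.g = S.d 0 h := funext fun x => by simp [g, d]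

theorem sum_g_sq : ∑ x, S.g x ^ 2 = 4 := by
  have h2 := S.two_le
  simp only [pow_two, g_eq_d]
  rw [S.sum_d_mul (by omega) le_rfl (by omega) le_rfl]
  simp (disch := omega) [if_pos, if_neg]

theorem sum_g_d {i j : ℕ} (hi : 1 ≤ i) (hi' : i < h) (hj : 1 ≤ j) (hj' : j < h) :
    ∑ x, S.g x * S.d i j x = 0 := by
  simp only [g_eq_d]
  rw [S.sum_d_mul (by omega) le_rfl hi'.le hj'.le]
  simp (disch := omega) [if_neg]

theorem odd_T_iff (x : ι) : ¬ (2 : ℤ) ∣ S.T x ↔ S.ht x = 0 := by
  obtain ⟨m, hm, he⟩ := S.val x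
  constructor
  · intro hodd
    by_contra h0
    exact hodd (he ▸ dvd_mul_of_dvd_left (dvd_pow_self 2 h0) m)
  · intro h0
    rwa [he, h0, pow_zero, one_mul]

theorem odd_g_iff (x : ι) : ¬ (2 : ℤ) ∣ S.g x ↔ S.ht x = 0 := by
  rw [← S.odd_T_iff]
  have h1 : (2 : ℤ) ∣ S.T x - S.g x := S.par x
  omega

/-- The members of height zero. -/
def H0 : Finset ι := Finset.univ.filter fun x => S.ht x = 0

theorem mem_H0 {x : ι} : x ∈ S.H0 ↔ S.ht x = 0 := by simp [H0]

theorem four : S.H0.card = 4 ∧ ∀ x ∉ S.H0, S.g x = 0 := by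
  classical
  have hsum := S.sum_g_sq
  rw [← Finset.sum_add_sum_compl S.H0] at hsum
  have hone : ∀ x ∈ S.H0, (1 : ℤ) ≤ S.g x ^ 2 := fun x hx => by
    have h0 : S.g x ≠ 0 := fun h0 => (S.odd_g_iff x).mpr (S.mem_H0.mp hx) (h0 ▸ dvd_zero 2)
    exact (sq_pos_of_ne_zero h0)
  have hle : (S.H0.card : ℤ) ≤ ∑ x ∈ S.H0, S.g x ^ 2 := by
    have := Finset.sum_le_sum hone
    simpa using this
  have hnn : (0 : ℤ) ≤ ∑ x ∈ S.H0ᶜ, S.g x ^ 2 := Finset.sum_nonneg fun x _ => sq_nonneg _
  have hpos : 0 < S.H0.card := Finset.card_pos.mpr <| by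
    obtain ⟨x, hx⟩ := S.zero
    exact ⟨x, S.mem_H0.mpr hx⟩
  have hmod : ((S.H0.card : ℤ) : ZMod 4) = 0 := by
    have h1 := congrArg (fun z : ℤ => (z : ZMod 4)) hsum
    push_cast at h1 ⊢
    have e1 : ∀ x ∈ S.H0, ((S.g x : ZMod 4)) ^ 2 = 1 := fun x hx => by
      obtain ⟨m, hm⟩ := Int.not_even_iff_odd.mp
        (fun he => (S.odd_g_iff x).mpr (S.mem_H0.mp hx) he.two_dvd)
      rw [hm]; push_cast
      exact (by decide : ∀ m : ZMod 4, (2 * m + 1) ^ 2 = 1) _
    have e2 : ∑ x ∈ S.H0ᶜ, ((S.g x : ZMod 4)) ^ 2 = 0 := Finset.sum_eq_zero fun x hx => by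
      obtain ⟨m, hm⟩ : ∃ m, S.g x = 2 * m := by
        have := mt (S.odd_g_iff x).mp fun h0 => Finset.mem_compl.mp hx (S.mem_H0.mpr h0)
        exact not_not.mp this
      rw [hm]; push_cast
      exact (by decide : ∀ m : ZMod 4, (2 * m) ^ 2 = 0) _
    rw [Finset.sum_congr rfl e1, e2, add_zero, Finset.sum_const, nsmul_one] at h1
    rw [h1]; rfl
  rw [ZMod.intCast_zmod_eq_zero_iff_dvd] at hmod
  push_cast at hmod
  have hc : S.H0.card = 4 := by omega
  refine ⟨hc, fun x hx => ?_⟩
  have h0 : ∑ x ∈ S.H0ᶜ, S.g x ^ 2 = 0 := by omega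
  exact pow_eq_zero_iff two_ne_zero |>.mp
    ((Finset.sum_eq_zero_iff_of_nonneg fun x _ => sq_nonneg _).mp h0 x (Finset.mem_compl.mpr hx))

theorem T_even {x : ι} (hx : x ∉ S.H0) : 4 ≤ S.T x ^ 2 := by
  obtain ⟨m, hm, he⟩ := S.val x
  have hh : S.ht x ≠ 0 := fun h0 => hx (S.mem_H0.mpr h0)
  have h2 : (2 : ℤ) ≤ 2 ^ S.ht x := by
    calc (2 : ℤ) = 2 ^ 1 := (pow_one _).symm
      _ ≤ _ := pow_le_pow_right₀ (by norm_num) (by omega)
  have hm0 : m ≠ 0 := fun h0 => hm (h0 ▸ dvd_zero 2)
  have : 1 ≤ m ^ 2 := sq_pos_of_ne_zero hm0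
  rw [he, mul_pow]
  nlinarith

theorem T_odd {x : ι} (hx : x ∈ S.H0) : 1 ≤ S.T x ^ 2 ∧ ((S.T x ^ 2 : ℤ) : ZMod 8) = 1 := by
  obtain ⟨m, hm⟩ := Int.not_even_iff_odd.mp
    (fun he => (S.odd_T_iff x).mpr (S.mem_H0.mp hx) he.two_dvd)
  refine ⟨sq_pos_of_ne_zero (show S.T x ≠ 0 by omega), ?_⟩
  rw [hm]; push_cast
  exact (by decide : ∀ m : ZMod 8, (2 * m + 1) ^ 2 = 1) _

theorem card_compl [DecidableEq ι] : S.H0ᶜ.card = Fintype.card ι - 4 := by
  rw [Finset.card_compl, S.four.1]

theorem four_le : 4 ≤ Fintype.card ι := by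
  rw [← S.four.1]; exact Finset.card_le_univ _

/-- The upper bound, with the heights when it is attained. -/
theorem upper : Fintype.card ι ≤ h + 3 ∧ (Fintype.card ι = h + 3 → ∀ x, S.ht x ≤ 1) := by
  classical
  have hsum := S.sumT
  rw [← Finset.sum_add_sum_compl S.H0] at hsum
  have h1 : (4 : ℤ) ≤ ∑ x ∈ S.H0, S.T x ^ 2 := by
    have := Finset.sum_le_sum (fun x hx => (S.T_odd (x := x) hx).1)
    rw [Finset.sum_const, S.four.1] at this
    simpa using this
  have h2 : 4 * ((Fintype.card ι - 4 : ℕ) : ℤ) ≤ ∑ x ∈ S.H0ᶜ, S.T x ^ 2 := by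
    have := Finset.sum_le_sum (s := S.H0ᶜ) (fun x hx => S.T_even (x := x) (Finset.mem_compl.mp hx))
    rw [Finset.sum_const, S.card_compl, nsmul_eq_mul, mul_comm] at this
    exact this
  have h4 := S.four_le
  refine ⟨by omega, fun hk x => ?_⟩
  by_contra hx
  have hxH : x ∈ S.H0ᶜ := Finset.mem_compl.mpr fun hm => hx (by rw [S.mem_H0.mp hm]; omega)
  rw [← Finset.add_sum_erase _ _ hxH] at hsum h2
  have h3 := Finset.sum_le_sum (s := S.H0ᶜ.erase x)
    (fun y hy => S.T_even (x := y) (Finset.mem_compl.mp (Finset.mem_erase.mp hy).2))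
  rw [Finset.sum_const, Finset.card_erase_of_mem hxH, S.card_compl, nsmul_eq_mul] at h3
  obtain ⟨m, hm, he⟩ := S.val x
  have h16 : 16 ≤ S.T x ^ 2 := by
    have h5 : (4 : ℤ) ≤ 2 ^ S.ht x := by
      calc (4 : ℤ) = 2 ^ 2 := by norm_num
        _ ≤ _ := pow_le_pow_right₀ (by norm_num) (by omega)
    have hm0 : m ≠ 0 := fun h0 => hm (by rw [h0]; exact dvd_zero 2)
    have : 1 ≤ m ^ 2 := sq_pos_of_ne_zero hm0
    rw [he, mul_pow]
    nlinarith
  omega

/-- A vector of norm two orthogonal to `g` lives on one side of the height zero members. -/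
theorem one_side {v : ι → ℤ} (hv : ∑ x, v x ^ 2 = 2) (hgv : ∑ x, S.g x * v x = 0) {x y : ι}
    (hx : x ∈ S.H0) (hy : y ∉ S.H0) : v x = 0 ∨ v y = 0 := by
  classical
  by_contra hc
  rw [not_or] at hc
  have hne : x ≠ y := fun he => hy (he ▸ hx)
  have hz : ∀ z, z ≠ x → z ≠ y → v z = 0 := by
    intro z hzx hzy
    by_contra hz0
    have h1 := Finset.sum_le_univ_sum_of_nonneg (f := fun w => v w ^ 2) (s := {x, y, z})
      fun w => sq_nonneg _
    rw [Finset.sum_insert (by simp [hne, Ne.symm hzx]), Finset.sum_insert (by simp [Ne.symm hzy]),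
      Finset.sum_singleton, hv] at h1
    have : 1 ≤ v x ^ 2 := sq_pos_of_ne_zero hc.1
    have : 1 ≤ v y ^ 2 := sq_pos_of_ne_zero hc.2
    have : 1 ≤ v z ^ 2 := sq_pos_of_ne_zero hz0
    omega
  rw [Finset.sum_eq_single x] at hgv
  · rcases mul_eq_zero.mp hgv with h0 | h0
    · exact (S.odd_g_iff x).mpr (S.mem_H0.mp hx) (h0 ▸ dvd_zero 2)
    · exact hc.1 h0
  · intro z _ hzx
    by_cases hzy : z = y
    · rw [hzy, S.four.2 y hy, zero_mul]
    · rw [hz z hzx hzy, mul_zero]
  · simp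

theorem norm_d {i j : ℕ} (hi : 1 ≤ i) (hi' : i < h) (hj : 1 ≤ j) (hj' : j < h) (hne : i ≠ j) :
    ∑ x, S.d i j x ^ 2 = 2 := by
  simp only [pow_two]
  rw [S.sum_d_mul hi'.le hj'.le hi'.le hj'.le]
  simp (disch := omega) [if_pos, if_neg]

/-- The lower bound for `h ≥ 7`. -/
theorem lower_big (hh : 7 ≤ h) : h + 3 ≤ Fintype.card ι := by
  classical
  let w : Fin (h - 2) → ι → ℤ := fun l => S.d 1 (2 + l)
  have hwn : ∀ l, ∑ x, w l x ^ 2 = 2 := fun l =>
    S.norm_d le_rfl (by omega) (by omega) (by have := l.2; omega) (by omega)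
  have hwg : ∀ l, ∑ x, S.g x * w l x = 0 := fun l =>
    S.sum_g_d le_rfl (by omega) (by omega) (by have := l.2; omega)
  have hwm : ∀ l m, ∑ x, w l x * w m x = if l = m then 2 else 1 := by
    intro l m
    have := l.2
    have := m.2
    rw [S.sum_d_mul (by omega) (by omega) (by omega) (by omega)]
    by_cases he : l = m
    · subst he; simp (disch := omega) [if_pos, if_neg]
    · have : (l : ℕ) ≠ m := fun h' => he (Fin.ext h')
      simp (disch := omega) [if_pos, if_neg, he]
  let l₀ : Fin (h - 2) := ⟨0, by omega⟩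
  have hcases : (∀ l, ∀ x ∉ S.H0, w l x = 0) ∨ (∀ l, ∀ x ∈ S.H0, w l x = 0) := by
    by_cases hin : ∃ x ∈ S.H0, w l₀ x ≠ 0
    · obtain ⟨x₀, hx₀, hx₀'⟩ := hin
      have hout₀ : ∀ y ∉ S.H0, w l₀ y = 0 := fun y hy =>
        (S.one_side (hwn l₀) (hwg l₀) hx₀ hy).resolve_left hx₀'
      refine Or.inl fun l y hy => ?_
      obtain ⟨z, -, hz⟩ := Finset.exists_ne_zero_of_sum_ne_zero
        (show ∑ x, w l₀ x * w l x ≠ 0 by rw [hwm]; split_ifs <;> norm_num)
      have hzH : z ∈ S.H0 := by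
        by_contra hn
        exact hz (by rw [hout₀ z hn, zero_mul])
      exact (S.one_side (hwn l) (hwg l) hzH hy).resolve_left (right_ne_zero_of_mul hz)
    · push Not at hin
      refine Or.inr fun l x hx => ?_
      obtain ⟨z, -, hz⟩ := Finset.exists_ne_zero_of_sum_ne_zero
        (show ∑ x, w l₀ x * w l x ≠ 0 by rw [hwm]; split_ifs <;> norm_num)
      have hzH : z ∉ S.H0 := fun hm => hz (by rw [hin z hm, zero_mul])
      exact (S.one_side (hwn l) (hwg l) hx hzH).resolve_right (right_ne_zero_of_mul hz)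
  -- the coefficients of a relation vanish
  have hindep : ∀ (c : Fin (h - 2) → ℝ) (b : ℝ),
      (∀ x, ∑ l, c l * (w l x : ℝ) + b * (S.deg x : ℝ) = 0 ∨ ∀ l, w l x = 0) → ∀ l, c l = 0 := by
    intro c b hrel
    have hm : ∀ m, c m + ∑ l, c l = 0 := by
      intro m
      have h0 : ∑ x, (w m x : ℝ) * (∑ l, c l * (w l x : ℝ) + b * (S.deg x : ℝ)) = 0 :=
        Finset.sum_eq_zero fun x _ => by
          rcases hrel x with hx | hx
          · rw [hx, mul_zero]
          · rw [hx m]; simp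
      simp only [mul_add, Finset.mul_sum, Finset.sum_add_distrib] at h0
      rw [Finset.sum_comm] at h0
      have e1 : ∀ l, ∑ x, (w m x : ℝ) * (c l * (w l x : ℝ)) = c l * (if m = l then 2 else 1) := by
        intro l
        have h1 : ((∑ x, w m x * w l x : ℤ) : ℝ) = ((if m = l then 2 else 1 : ℤ) : ℝ) := by rw [hwm]
        push_cast at h1
        rw [← h1, Finset.mul_sum]
        exact Finset.sum_congr rfl fun x _ => by ring
      have e2 : ∑ x, (w m x : ℝ) * (b * (S.deg x : ℝ)) = 0 := by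
        have h1 : ((∑ x, w m x * S.deg x : ℤ) : ℝ) = 0 := by
          rw [show ∑ x, w m x * S.deg x = 0 from S.deg_orth _ _]; simp
        push_cast at h1
        rw [show ∑ x, (w m x : ℝ) * (b * (S.deg x : ℝ)) = b * ∑ x, (w m x : ℝ) * (S.deg x : ℝ) by
          rw [Finset.mul_sum]; exact Finset.sum_congr rfl fun x _ => by ring, h1, mul_zero]
      rw [Finset.sum_congr rfl fun l _ => e1 l, e2, add_zero] at h0
      rw [Finset.sum_congr rfl (g := fun l => c l + if m = l then c l else 0) fun l _ => by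
        split_ifs <;> ring, Finset.sum_add_distrib] at h0
      simp only [Finset.sum_ite_eq, Finset.mem_univ, if_true] at h0
      linarith
    have hs : ∑ l, c l = 0 := by
      have h0 : ∑ m : Fin (h - 2), (c m + ∑ l, c l) = 0 := Finset.sum_eq_zero fun m _ => hm m
      rw [Finset.sum_add_distrib, Finset.sum_const, Finset.card_univ, Fintype.card_fin,
        nsmul_eq_mul] at h0
      have : (0 : ℝ) ≤ ((h - 2 : ℕ) : ℝ) := Nat.cast_nonneg _
      nlinarith
    intro l
    have := hm l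
    linarith
  rcases hcases with hout | hin
  · exfalso
    have hli : LinearIndependent ℝ fun l : Fin (h - 2) => fun x : S.H0 => (w l x : ℝ) := by
      refine Fintype.linearIndependent_iff.mpr fun c hc => hindep c 0 fun x => ?_
      by_cases hx : x ∈ S.H0
      · refine Or.inl ?_
        have := congrFun hc ⟨x, hx⟩
        simpa using this
      · exact Or.inr fun l => hout l x hx
    have := hli.fintype_card_le_finrank
    rw [Fintype.card_fin, Module.finrank_fintype_fun_eq_card, Fintype.card_coe, S.four.1] at this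
    omega
  · obtain ⟨z, -, hz⟩ := Finset.exists_ne_zero_of_sum_ne_zero
      (show ∑ x, w l₀ x * w l₀ x ≠ 0 by rw [hwm, if_pos rfl]; norm_num)
    have hzH : z ∈ S.H0ᶜ :=
      Finset.mem_compl.mpr fun hm => hz (by rw [hin l₀ z hm, zero_mul])
    let F : Option (Fin (h - 2)) → (S.H0ᶜ : Finset ι) → ℝ := fun o x =>
      o.elim (S.deg x : ℝ) fun l => (w l x : ℝ)
    have hli : LinearIndependent ℝ F := by
      refine Fintype.linearIndependent_iff.mpr fun c hc => ?_
      have hx : ∀ x ∈ S.H0ᶜ, c none * (S.deg x : ℝ) + ∑ l, c (some l) * (w l x : ℝ) = 0 := by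
        intro x hx
        have := congrFun hc ⟨x, hx⟩
        simpa [F, Fintype.sum_option] using this
      have h0 := hindep (fun l => c (some l)) (c none) fun x => by
        by_cases hm : x ∈ S.H0
        · exact Or.inr fun l => hin l x hm
        · exact Or.inl (by rw [add_comm]; exact hx x (Finset.mem_compl.mpr hm))
      rintro (_ | l)
      · have := hx z hzH
        rw [Finset.sum_eq_zero fun l _ => by rw [h0 l, zero_mul], add_zero] at this
        exact (mul_eq_zero.mp this).resolve_right (by exact_mod_cast (S.deg_pos z).ne')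
      · exact h0 l
    have := hli.fintype_card_le_finrank
    rw [Fintype.card_option, Fintype.card_fin, Module.finrank_fintype_fun_eq_card, Fintype.card_coe,
      S.card_compl] at this
    have := S.four_le
    omega

/-- The lower bound for `h = 2`. -/
theorem lower_two (hh : h = 2) : h + 3 ≤ Fintype.card ι := by
  classical
  subst hh
  by_contra hlt
  have h4 := S.four_le
  have hc : S.H0ᶜ.card = 0 := by rw [S.card_compl]; omega
  have hsum := S.sumT
  rw [← Finset.sum_add_sum_compl S.H0, Finset.card_eq_zero.mp hc, Finset.sum_empty, add_zero] at hsum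
  have h1 := congrArg (fun z : ℤ => (z : ZMod 8)) hsum
  push_cast at h1
  rw [Finset.sum_congr rfl (g := fun _ => (1 : ZMod 8)) fun x hx => by
    have := (S.T_odd hx).2; push_cast at this; exact this, Finset.sum_const, S.four.1, nsmul_one] at h1
  revert h1
  decide

/-- The possible sizes for `h = 4`. -/
theorem lower_four (hh : h = 4) : Fintype.card ι = 5 ∨ Fintype.card ι = 7 := by
  classical
  subst hh
  have h4 := S.low
  have hu := S.upper.1
  rcases (by omega : Fintype.card ι = 5 ∨ Fintype.card ι = 6 ∨ Fintype.card ι = 7) with h5 | h6 | h7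
  · exact Or.inl h5
  · exfalso
    have hc : S.H0ᶜ.card = 2 := by rw [S.card_compl]; omega
    obtain ⟨x, y, hxy, he⟩ := Finset.card_eq_two.mp hc
    have hx : x ∉ S.H0 := Finset.mem_compl.mp (by rw [he]; simp)
    have hy : y ∉ S.H0 := Finset.mem_compl.mp (by rw [he]; simp)
    have hsum := S.sumT
    rw [← Finset.sum_add_sum_compl S.H0, he, Finset.sum_pair hxy] at hsum
    have hH := Finset.sum_le_sum (fun x hx => (S.T_odd (x := x) hx).1)
    rw [Finset.sum_const, S.four.1] at hH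
    simp only [nsmul_eq_mul, mul_one] at hH
    have h2x : (2 : ℤ) ∣ S.T x := by
      have := mt (S.odd_T_iff x).mp fun h0 => hx (S.mem_H0.mpr h0)
      exact not_not.mp this
    have h2y : (2 : ℤ) ∣ S.T y := by
      have := mt (S.odd_T_iff y).mp fun h0 => hy (S.mem_H0.mpr h0)
      exact not_not.mp this
    obtain ⟨p, hp⟩ := h2x
    obtain ⟨q, hq⟩ := h2y
    have hmod : (((∑ x ∈ S.H0, S.T x ^ 2) - 4 : ℤ) : ZMod 8) = 0 := by
      push_cast
      rw [Finset.sum_congr rfl (g := fun _ => (1 : ZMod 8)) fun x hx => by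
        have := (S.T_odd hx).2; push_cast at this; exact this, Finset.sum_const, S.four.1, nsmul_one]
      decide
    rw [ZMod.intCast_zmod_eq_zero_iff_dvd] at hmod
    push_cast at hmod
    have hTx := S.T_even hx
    have hTy := S.T_even hy
    have hne : ∀ z : ℤ, z ^ 2 ≠ 2 := fun z hz => by
      rcases (by omega : z ≤ -2 ∨ z = -1 ∨ z = 0 ∨ z = 1 ∨ 2 ≤ z) with h' | h' | h' | h' | h'
      · nlinarith
      · simp [h'] at hz
      · simp [h'] at hz
      · simp [h'] at hz
      · nlinarith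
    have hp2 := hne p
    have hq2 := hne q
    rw [hp, mul_pow] at hTx hsum
    rw [hq, mul_pow] at hTy hsum
    simp only [show (2 : ℤ) ^ 2 = 4 by norm_num, nsmul_eq_mul, mul_one] at hTx hTy hsum hH
    push_cast at hTx hTy hsum hH
    omega
  · exact Or.inr h7

theorem card_eq_of_ne_four (hpow : h = 2 ∨ h = 4 ∨ 7 ≤ h) (h5 : ¬ (h = 4 ∧ Fintype.card ι = 5)) :
    Fintype.card ι = h + 3 := by
  have hu := S.upper.1
  rcases hpow with hh | hh | hh
  · have := S.lower_two hh; omega
  · rcases S.lower_four hh with h' | h' <;> omega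
  · have := S.lower_big hh; omega

end CountData

end Cfsg.Agent.BC84.Dihedral
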