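import Cfsg.Agent.BC84.Dihedral.Columns
import Cfsg.Agent.BC84.MajorTwo

/-!
# The counting data of a block with dihedral defect group
-/

set_option autoImplicit false
set_option linter.unusedSectionVars false
set_option linter.style.haveILetI false

namespace Cfsg.Agent.BC84.Dihedral

open BlocksCore BlocksDefect BC85 BC85.Star
open scoped Classical ComplexConjugate

universe u

theorem defect_of_coe_eq {G : Type u} [Group G] [Fintype G] {p : ℕ} {H H' : Subgroup G} (h : H = H')
    {b : Set (IrrCharacter H)} {b' : Set (IrrCharacter H')}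
    (he : subgroupBlockCoeff H b = subgroupBlockCoeff H' b') :
    blockDefect p b = blockDefect p b' := by
  subst h
  rw [show b = b' from blockCoeff_injective (funext fun x => by
    rw [← subgroupBlockCoeff_coe H b x, he, subgroupBlockCoeff_coe H b' x])]

theorem sum_mems {G : Type u} [Group G] [Fintype G] {B : Set (IrrCharacter G)} [Fintype B]
    {R : Type*} [AddCommMonoid R] (f : IrrCharacter G → R) :
    ∑ χ ∈ CharCore.SubContrib.mems B, f χ = ∑ χ : B, f χ :=
  Finset.sum_subtype _ (fun _ => CharCore.SubContrib.mem_mems) f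

variable {G : Type u} [Group G] [Fintype G] [Fact (Nat.Prime 2)] {M : Ideal AlgInt}
  [hP : M.IsPrime] {hM : IsPModular 2 M} {B : Set (IrrCharacter G)} {D : Subgroup G}
  {e : Set (IrrCharacter (Subgroup.centralizer (D : Set G)))}
  {hmax : IsMaximalBrauerPair 2 M B D e} {r : G} {h : ℕ} [NeZero (2 * h)] {S : DihData D r h}
  {Θ : IrrCharacter G → ZMod (2 * h) → ℂ} {A : IrrCharacter G → ZMod (2 * h) → ℕ}
  (R : RotColumns hM hmax S Θ A)

include R

theorem half_ne_zero : (h : ZMod (2 * h)) ≠ 0 := fun he =>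
  S.pow_half_ne_one (by rw [← S.rot_half, he, S.rot_zero]; rfl)

theorem blockDefect_eq : 2 ^ blockDefect 2 B = 4 * h := by
  rw [← S.card]
  exact (defectGroup_natCard hM hmax.1.2.1 (isDefectGroup_of_maximal hM hmax)).symm

/-- The values at the central involution are units up to the heights. -/
theorem val_of_height {T : IrrCharacter G → ℤ} (hT : ∀ χ, Θ χ (h : ZMod (2 * h)) = (T χ : ℂ))
    {χ : IrrCharacter G} (hχ : χ ∈ B) :
    ∃ m : ℤ, ¬ (2 : ℤ) ∣ m ∧ T χ = 2 ^ blockHeight 2 B (χ : G → ℂ) * m := by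
  set z : D := S.rot (h : ZMod (2 * h)) with hz
  have hzG : (z : G) = r ^ h := S.rot_half
  obtain ⟨Q, hQ⟩ := R.col _ (half_ne_zero R)
  rw [if_pos rfl] at hQ
  have hord : orderOf (z : G) = 2 ^ 1 := by
    rw [hzG, pow_one]
    exact orderOf_eq_prime (by rw [pow_two]; exact S.pow_mul_self) S.pow_half_ne_one
  have hv : ∃ n : ℕ, orderOf (z : G) = 2 ^ n := ⟨1, hord⟩
  obtain ⟨b, hb, hcoe, hiff⟩ := exists_block_induced hM hv (atBelow_mem hM hmax z)
  have hind : IsInducedBlock M (Subgroup.centralizer ({(z : G)} : Set G)) b B :=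
    (hiff B).mp (atBelow_pairOf hM hmax z)
  -- the defect
  have hle : D ≤ Subgroup.centralizer ((Subgroup.zpowers (z : G) : Subgroup G) : Set G) := by
    rw [hzG]; exact S.le_centralizer
  have hfc : (blockFusion hM hmax.1.1).IsFullyCentralized (Subgroup.zpowers (z : G)) := by
    refine ⟨Subgroup.zpowers_le.mpr z.2, fun Y _ => ?_⟩
    rw [FusionSystem.centralizerIn, FusionSystem.centralizerIn,
      inf_eq_left.mpr hle]
    exact Subgroup.card_le_of_le inf_le_left
  obtain ⟨e', hmax', -⟩ := exists_local_max hM hmax z hfc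
  have hdb : blockDefect 2 b = blockDefect 2 B := by
    have h1 : blockDefect 2 b = blockDefect 2 (locB hM hmax z) :=
      defect_of_coe_eq (BlocksCore.centralizer_zpowers (z : G)).symm hcoe
    rw [h1]
    apply Nat.pow_right_injective (le_refl 2)
    show 2 ^ blockDefect 2 (locB hM hmax z) = 2 ^ blockDefect 2 B
    rw [blockDefect_eq R, ← defectGroup_natCard hM hmax'.1.2.1 (isDefectGroup_of_maximal hM hmax'),
      ← S.card, locD, inf_eq_left.mpr hle,
      card_subgroupOf hle]
  -- the contribution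
  have hMc : ∀ χ ψ : IrrCharacter G, χ ∈ B → ψ ∈ B → Mc b χ ψ = ((T χ * T ψ : ℤ) : ℂ) := by
    intro χ ψ hχ hψ
    have hcon : (Nat.card (Subgroup.centralizer ({(z : G)} : Set G)) : ℂ) *
        contr 2 b (χ : G → ℂ) (ψ : G → ℂ) =
        contribAt 2 (atBelow hM hmax z) (z : G) (χ : G → ℂ) (ψ : G → ℂ) := by
      rw [contribAt_eq_sum hM hv (atBelow_mem hM hmax z) (irr_class χ) (irr_class ψ), sum_sect,
        show contr 2 b (χ : G → ℂ) (ψ : G → ℂ) = classInner (sectMap 2 (z : G) b (χ : G → ℂ))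
          (sectMap 2 (z : G) b (ψ : G → ℂ)) by unfold contr; congr!,
        classInner, ← mul_assoc, mul_inv_cancel₀ (Nat.cast_ne_zero.mpr Nat.card_pos.ne'), one_mul,
        Finset.sum_filter]
      refine Finset.sum_congr (by congr!) fun c _ => ?_
      rw [sectMap_eq_regPart, sectMap_eq_regPart]
      by_cases hc : 2 ∣ orderOf c
      · rw [if_neg (not_not.mpr hc), BC85.pRegularPart_neg hc, zero_mul]
      · rw [if_pos hc, BC85.pRegularPart_pos hc, BC85.pRegularPart_pos hc,
          proj_eq_blockPart (irr_class χ) hcoe, proj_eq_blockPart (irr_class ψ) hcoe]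
    have h1 := hQ.contribAt_eq hχ hψ
    rw [← hcon, R.real, hT, hT] at h1
    have hC : (Nat.card (Subgroup.centralizer ({(z : G)} : Set G)) : ℂ) ≠ 0 :=
      Nat.cast_ne_zero.mpr Nat.card_pos.ne'
    rw [Mc, hdb, show (2 : ℂ) ^ blockDefect 2 B = ((4 * h : ℕ) : ℂ) by
      rw [← blockDefect_eq R]; push_cast; rfl]
    refine mul_left_cancel₀ hC ?_
    push_cast at h1 ⊢
    linear_combination h1
  obtain ⟨ψ, hψ, hψ0⟩ := exists_height_zero hM hmax.1.2.1
  have hψodd : ¬ (2 : ℤ) ∣ T ψ := by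
    intro hd
    refine Mc_unit hM hord hind hψ hψ hψ0 hψ0 ?_
    rw [hMc ψ ψ hψ hψ]
    exact (memLocalIdeal_intCast_iff hM _).mpr (by exact_mod_cast hd.mul_right _)
  obtain ⟨hloc, hnot⟩ := Mc_val_zero hM hord hind hdb hχ hψ hψ0
  rw [hMc χ ψ hχ hψ] at hloc hnot
  set j := blockHeight 2 B (χ : G → ℂ)
  have hT0 : T χ ≠ 0 := by
    intro h0
    rw [h0] at hnot
    exact hnot (by simpa using memLocalIdeal_zero)
  set v := (T χ).natAbs.factorization 2 with hv'
  obtain ⟨m, hm, hTm⟩ : ∃ m : ℤ, ¬ (2 : ℤ) ∣ m ∧ T χ = 2 ^ v * m := by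
    have h1 : ((T χ).natAbs : ℤ) = 2 ^ v * (((T χ).natAbs / 2 ^ v : ℕ) : ℤ) := by
      rw [hv']
      exact_mod_cast (Nat.ordProj_mul_ordCompl_eq_self (T χ).natAbs 2).symm
    have h2 : ¬ 2 ∣ (T χ).natAbs / 2 ^ v :=
      Nat.not_dvd_ordCompl Nat.prime_two (Int.natAbs_ne_zero.mpr hT0)
    rcases Int.natAbs_eq (T χ) with he | he
    · exact ⟨((((T χ).natAbs / 2 ^ v : ℕ) : ℤ)), fun hd => h2 (by exact_mod_cast hd), he.trans h1⟩
    · exact ⟨-(((T χ).natAbs / 2 ^ v : ℕ) : ℤ), fun hd => h2 (by exact_mod_cast (dvd_neg.mp hd)), he.trans (by rw [h1]; ring)⟩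
  have hmψ : ¬ (2 : ℤ) ∣ m * T ψ := fun hd => by
    rcases Int.prime_two.dvd_or_dvd hd with h' | h'
    · exact hm h'
    · exact hψodd h'
  have hvj : v = j := by
    rcases lt_trichotomy v j with hlt | heq | hgt
    · exfalso
      obtain ⟨i, hi⟩ : ∃ i, j = v + (i + 1) := ⟨j - v - 1, by omega⟩
      have h2I : MemLocalIdeal M ((2 : ℂ) ^ (i + 1)) := by
        have h3 := (memLocalIdeal_natCast_iff hM (2 ^ (i + 1))).mpr (dvd_pow_self 2 (Nat.succ_ne_zero i))
        push_cast at h3
        exact h3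
      have h4 := memLocalIdeal_mul_right h2I hloc
      rw [hTm, hi] at h4
      push_cast at h4
      rw [show (2 : ℂ) ^ (i + 1) * (2 ^ v * (m : ℂ) * (T ψ : ℂ) / 2 ^ (v + (i + 1))) =
        ((m * T ψ : ℤ) : ℂ) by push_cast; field_simp; ring] at h4
      exact hmψ ((memLocalIdeal_intCast_iff hM _).mp h4)
    · exact heq
    · exfalso
      obtain ⟨i, hi⟩ : ∃ i, v = j + (i + 1) := ⟨v - j - 1, by omega⟩
      refine hnot ?_
      rw [hTm, hi, show (((2 ^ (j + (i + 1)) * m) * T ψ : ℤ) : ℂ) / 2 ^ j =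
        ((2 ^ (i + 1) * (m * T ψ) : ℤ) : ℂ) by push_cast; field_simp; ring]
      exact (memLocalIdeal_intCast_iff hM _).mpr (dvd_mul_of_dvd_left (dvd_pow_self _ (Nat.succ_ne_zero i)) _)
  exact ⟨m, hm, hvj ▸ hTm⟩

/-- The rank and the columns fit into the block. -/
theorem rank_add_le [Fintype B] : 1 ≤ blockRank 2 B ∧ blockRank 2 B + h ≤ Fintype.card B := by
  constructor
  · obtain ⟨χ, hχ, -⟩ := exists_height_zero hM hmax.1.2.1
    rw [blockRank, Nat.one_le_iff_ne_zero]
    intro h0
    have hbot := Submodule.finrank_eq_zero.mp h0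
    have hmem : pRegularPart 2 (χ : G → ℂ) ∈
        Submodule.span ℂ ((fun χ : IrrCharacter G => pRegularPart 2 (χ : G → ℂ)) '' B) :=
      Submodule.subset_span ⟨χ, hχ, rfl⟩
    rw [hbot, Submodule.mem_bot] at hmem
    have h1 := congrFun hmem 1
    rw [BC85.pRegularPart_pos (by simp), Pi.zero_apply] at h1
    exact irr_one_ne_zero χ h1
  · let L : (B → ℂ) →ₗ[ℂ] (G → ℂ) :=
      Fintype.linearCombination ℂ fun χ : B => pRegularPart 2 ((χ : IrrCharacter G) : G → ℂ)
    have hrange : blockRank 2 B = Module.finrank ℂ (LinearMap.range L) := by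
      rw [blockRank, Fintype.range_linearCombination, Set.image_eq_range]
    let col : Fin h → B → ℂ := fun c χ => Θ (χ : IrrCharacter G) (((c : ℕ) + 1 : ℕ) : ZMod (2 * h))
    have hne : ∀ c : Fin h, (((c : ℕ) + 1 : ℕ) : ZMod (2 * h)) ≠ 0 := fun c he => by
      rw [ZMod.natCast_eq_zero_iff] at he
      have := Nat.le_of_dvd (by omega) he
      omega
    have hker : ∀ c, col c ∈ LinearMap.ker L := by
      intro c
      rw [LinearMap.mem_ker, Fintype.linearCombination_apply]
      funext s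
      rw [Finset.sum_apply, Pi.zero_apply]
      simp only [Pi.smul_apply, smul_eq_mul]
      by_cases hs : 2 ∣ orderOf s
      · exact Finset.sum_eq_zero fun χ _ => by rw [BC85.pRegularPart_neg hs, mul_zero]
      · simp only [BC85.pRegularPart_pos hs, col]
        rw [← sum_mems (fun χ : IrrCharacter G =>
          Θ χ (((c : ℕ) + 1 : ℕ) : ZMod (2 * h)) * (χ : G → ℂ) s)]
        exact R.orth_regular (hne c) hs
    have hgram : ∀ c c' : Fin h, ∑ χ : B, col c χ * col c' χ =
        if c = c' then ((2 * h : ℕ) : ℂ) * (if (c : ℕ) + 1 = h then 2 else 1) else 0 := by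
      intro c c'
      simp only [col]
      rw [← sum_mems (fun χ : IrrCharacter G => Θ χ (((c : ℕ) + 1 : ℕ) : ZMod (2 * h)) *
        Θ χ (((c' : ℕ) + 1 : ℕ) : ZMod (2 * h))), R.orth (hne c) (hne c')]
      have hbr := CountData.br_nat (h := h) (i := (c' : ℕ) + 1) (j := (c : ℕ) + 1) S.two_le c'.2 c.2
      simp only [br] at hbr
      have hC := congrArg (fun x : ℤ => (x : ℂ)) hbr
      simp only [Int.cast_add, Int.cast_ite, Int.cast_one, Int.cast_zero, Int.cast_ofNat] at hC
      rw [hC]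
      by_cases hcc : c = c'
      · subst hcc; simp
      · have : ¬ (c' : ℕ) + 1 = (c : ℕ) + 1 := fun he => hcc (Fin.ext (by omega))
        rw [if_neg hcc, if_neg this, mul_zero]
    have hli : LinearIndependent ℂ fun c : Fin h => (⟨col c, hker c⟩ : LinearMap.ker L) := by
      refine Fintype.linearIndependent_iff.mpr fun g hg c => ?_
      have hg' : ∑ c', g c' • col c' = 0 := by
        simpa using congrArg Subtype.val hg
      have h1 : ∑ χ : B, col c χ * (∑ c', g c' • col c') χ = 0 := by rw [hg']; simp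
      simp only [Finset.sum_apply, Pi.smul_apply, smul_eq_mul, Finset.mul_sum] at h1
      rw [Finset.sum_comm, Finset.sum_congr rfl fun c' _ => by
        rw [Finset.sum_congr rfl fun χ _ => mul_left_comm (col c χ) (g c') (col c' χ),
          ← Finset.mul_sum, hgram]] at h1
      simp only [mul_ite, mul_zero, Finset.sum_ite_eq, Finset.mem_univ, if_true] at h1
      simp only [← mul_ite] at h1
      refine (mul_eq_zero.mp h1).resolve_right ?_
      have : h ≠ 0 := by have := S.two_le; omega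
      split_ifs <;> simp [this]
    have h2 := hli.fintype_card_le_finrank
    rw [Fintype.card_fin] at h2
    have h3 := L.finrank_range_add_finrank_ker
    rw [Module.finrank_fintype_fun_eq_card] at h3
    omega

/-- The counting data. -/
theorem exists_countData [Fintype B] : ∃ C : CountData B h,
    (∀ χ : B, C.ht χ = blockHeight 2 B ((χ : IrrCharacter G) : G → ℂ)) ∧
    (∀ χ : B, C.deg χ = charDegree ((χ : IrrCharacter G) : G → ℂ)) ∧
    (∀ (χ : B) j, C.a χ j = A (χ : IrrCharacter G) j) ∧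
    (∀ χ : B, ((C.T χ : ℤ) : ℂ) = Θ (χ : IrrCharacter G) (h : ZMod (2 * h))) := by
  obtain ⟨T, hT⟩ := R.exists_int
  have horth : ∀ c c' : ZMod (2 * h), c ≠ 0 → c' ≠ 0 → ∑ χ : B, Θ (χ : IrrCharacter G) c * Θ χ c' =
      ((2 * h : ℕ) : ℂ) * ((if c' = c then 1 else 0) + if c' = -c then 1 else 0) := fun c c' hc hc' => by
    rw [← sum_mems (fun χ : IrrCharacter G => Θ χ c * Θ χ c')]
    exact R.orth hc hc'
  refine ⟨{
    a := fun χ j => A (χ : IrrCharacter G) j
    T := fun χ => T χ
    ht := fun χ => blockHeight 2 B ((χ : IrrCharacter G) : G → ℂ)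
    deg := fun χ => charDegree ((χ : IrrCharacter G) : G → ℂ)
    two_le := S.two_le
    gram := gram_of_orth (fun χ : B => R.coeff χ) horth
    par := fun χ => (hT χ).2
    val := fun χ => val_of_height R (fun ψ => (hT ψ).1) χ.2
    sumT := ?_
    deg_pos := fun χ => by exact_mod_cast charDegree_pos (χ : IrrCharacter G)
    deg_orth := orth_of_orth (fun χ : B => R.coeff χ) fun c hc => ?_
    zero := ?_
    low := ?_ }, fun _ => rfl, fun _ => rfl, fun _ _ => rfl, fun χ => (hT χ).1.symm⟩
  · refine Int.cast_injective (α := ℂ) ?_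
    have h1 := horth _ _ (half_ne_zero R) (half_ne_zero R)
    have hneg : (h : ZMod (2 * h)) = -(h : ZMod (2 * h)) := by
      rw [eq_neg_iff_add_eq_zero, ← Nat.cast_add, ← two_mul, ZMod.natCast_self]
    rw [if_pos rfl, if_pos hneg] at h1
    simp only [(hT _).1] at h1
    push_cast at h1 ⊢
    simp only [pow_two]
    linear_combination h1
  · have h1 := R.orth_regular hc (s := 1) (by simp)
    rw [sum_mems (fun χ : IrrCharacter G => Θ χ c * (χ : G → ℂ) 1)] at h1
    rw [← h1]
    exact Finset.sum_congr rfl fun χ _ => by rw [irr_one_eq]; push_cast; rfl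
  · obtain ⟨χ, hχ, h0⟩ := exists_height_zero hM hmax.1.2.1
    exact ⟨⟨χ, hχ⟩, h0⟩
  · obtain ⟨h1, h2⟩ := rank_add_le R
    omega

end Cfsg.Agent.BC84.Dihedral
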