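import Cfsg.Agent.BC84.Dihedral.Count
import Mathlib.Data.Matrix.Basic
import Mathlib.LinearAlgebra.Matrix.ToLin

/-!
# Five members with defect group dihedral of order sixteen

The five integral vectors orthogonal to each other determine the sum that the congruence of the
central characters rules out.
-/

set_option autoImplicit false

namespace Cfsg.Agent.BC84.Dihedral.CountData

variable {ι : Type*} [Fintype ι] (S : CountData ι 4)

include S

/-- The value at the elements of order four. -/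
def v4 (x : ι) : ℤ := S.d 0 2 x + S.d 4 2 x

/-- The value at the central involution. -/
def y4 (x : ι) : ℤ := S.d 0 1 x + S.d 4 1 x + 2 * S.d 2 3 x

theorem five (hk : Fintype.card ι = 5) (hT : ∀ x, S.T x = S.y4 x) :
    ∃ e, S.ht e = 1 ∧ ∃ ε : ℤ, (ε = 16 ∨ ε = -16) ∧ ∀ w : ℂ, w ^ 2 = 2 →
      3 * (S.deg e : ℂ) *
        ∑ x, (S.T x : ℂ) * ((S.g x : ℂ) + w * (S.d 1 3 x : ℂ)) ^ 2 / (S.deg x : ℂ) = (ε : ℂ) := by
  classical
  obtain ⟨e, he⟩ := Finset.card_eq_one.mp (show S.H0ᶜ.card = 1 by rw [S.card_compl, hk])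
  have heH : e ∉ S.H0 := Finset.mem_compl.mp (by rw [he]; simp)
  have hsplit : ∀ {R : Type} [AddCommMonoid R] (f : ι → R),
      ∑ x, f x = ∑ x ∈ S.H0, f x + f e := by
    intro R _ f
    rw [← Finset.sum_add_sum_compl S.H0, he, Finset.sum_singleton]
  have houtd : ∀ j, 2 ≤ j → j < 4 → S.d 1 j e = 0 := by
    intro j hj hj'
    by_contra hne
    have hn := S.norm_d (i := 1) (j := j) le_rfl (by norm_num) (by omega) hj' (by omega)
    have hg := S.sum_g_d (i := 1) (j := j) le_rfl (by norm_num) (by omega) hj'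
    have hn' := hn
    rw [hsplit, Finset.sum_eq_zero fun x hx => by
      rw [(S.one_side hn' hg hx heH).resolve_right hne]; norm_num, zero_add] at hn
    rcases (by omega : S.d 1 j e ≤ -2 ∨ S.d 1 j e = -1 ∨ S.d 1 j e = 1 ∨ 2 ≤ S.d 1 j e)
      with h' | h' | h' | h'
    · nlinarith
    · simp [h'] at hn
    · simp [h'] at hn
    · nlinarith
  have h12 := houtd 2 le_rfl (by norm_num)
  have h13 := houtd 3 (by norm_num) (by norm_num)
  have hge : S.g e = 0 := S.four.2 e heH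
  have hve : S.v4 e = S.T e := by
    rw [hT]
    simp only [v4, y4, d] at h12 h13 ⊢
    omega
  -- the orthogonality
  have exp : ∀ a b c d' : ι → ℤ, ∑ x, (a x + b x) * (c x + d' x) =
      (∑ x, a x * c x + ∑ x, a x * d' x) + (∑ x, b x * c x + ∑ x, b x * d' x) := fun a b c d' => by
    simp only [add_mul, mul_add, Finset.sum_add_distrib]
    ring
  have D : ∀ (i j k l : ℕ), i ≤ 4 → j ≤ 4 → k ≤ 4 → l ≤ 4 → _ := fun i j k l hi hj hk hl =>
    S.sum_d_mul (i := i) (j := j) (k := k) (l := l) hi hj hk hl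
  have hvv : ∑ x, S.v4 x * S.v4 x = 8 := by
    simp only [v4, exp]
    simp (disch := norm_num) [D]
  have hvg : ∑ x, S.v4 x * S.g x = 0 := by
    simp only [v4, g_eq_d, add_mul, Finset.sum_add_distrib]
    simp (disch := norm_num) [D]
  have hvd : ∑ x, S.v4 x * S.d 1 3 x = 0 := by
    simp only [v4, add_mul, Finset.sum_add_distrib]
    simp (disch := norm_num) [D]
  have hvy : ∑ x, S.v4 x * S.y4 x = 0 := by
    simp only [v4, y4, add_mul, mul_add, mul_left_comm _ (2 : ℤ), Finset.sum_add_distrib,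
      ← Finset.mul_sum]
    simp (disch := norm_num) [D]
  have hyg : ∑ x, S.y4 x * S.g x = 0 := by
    simp only [y4, g_eq_d, add_mul, mul_assoc, Finset.sum_add_distrib, ← Finset.mul_sum]
    simp (disch := norm_num) [D]
  have hyd : ∑ x, S.y4 x * S.d 1 3 x = 0 := by
    simp only [y4, add_mul, mul_assoc, Finset.sum_add_distrib, ← Finset.mul_sum]
    simp (disch := norm_num) [D]
  have hgd : ∑ x, S.g x * S.d 1 3 x = 0 :=
    S.sum_g_d le_rfl (by norm_num) (by norm_num) (by norm_num)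
  have hdd : ∑ x, S.d 1 3 x * S.d 1 3 x = 2 := by
    simp (disch := norm_num) [D]
  have hgg : ∑ x, S.g x * S.g x = 4 := by simpa [pow_two] using S.sum_g_sq
  have hyy : ∑ x, S.y4 x * S.y4 x = 16 := by
    have := S.sumT
    simpa [hT, pow_two] using this
  have hδ : ∀ i j : ℕ, ∑ x, S.d i j x * S.deg x = 0 := fun i j => S.deg_orth _ _
  have hvδ : ∑ x, S.v4 x * S.deg x = 0 := by
    simp only [v4, add_mul, Finset.sum_add_distrib, hδ, add_zero]
  have hyδ : ∑ x, S.y4 x * S.deg x = 0 := by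
    simp only [y4, add_mul, mul_assoc, Finset.sum_add_distrib, ← Finset.mul_sum, hδ]
    norm_num
  have hgδ : ∑ x, S.g x * S.deg x = 0 := by simp only [g_eq_d, hδ]
  -- the values at `e`
  have hTe : S.T e ^ 2 = 4 := by
    have h1 := S.sumT
    rw [hsplit] at h1
    have hH := Finset.sum_le_sum (fun x hx => (S.T_odd (x := x) hx).1)
    rw [Finset.sum_const, S.four.1] at hH
    obtain ⟨m, hm, hval⟩ := S.val e
    have h2 : (2 : ℤ) ∣ S.T e := not_not.mp (mt (S.odd_T_iff e).mp fun h0 => heH (S.mem_H0.mpr h0))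
    obtain ⟨q, hq⟩ := h2
    have := S.T_even heH
    simp only [nsmul_eq_mul, mul_one] at hH
    push_cast at h1 hH
    rcases (by omega : q ≤ -2 ∨ q = -1 ∨ q = 0 ∨ q = 1 ∨ 2 ≤ q) with h' | h' | h' | h' | h'
    · nlinarith
    · rw [hq, h']; norm_num
    · simp [hq, h'] at this
    · rw [hq, h']; norm_num
    · nlinarith
  have hhte : S.ht e = 1 := by
    obtain ⟨m, hm, hval⟩ := S.val e
    have h0 : S.ht e ≠ 0 := fun h0 => heH (S.mem_H0.mpr h0)
    by_contra h1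
    have h5 : (4 : ℤ) ≤ 2 ^ S.ht e := by
      calc (4 : ℤ) = 2 ^ 2 := by norm_num
        _ ≤ _ := pow_le_pow_right₀ (by norm_num) (by omega)
    have hm0 : m ≠ 0 := fun h0 => hm (by rw [h0]; exact dvd_zero 2)
    have : 1 ≤ m ^ 2 := sq_pos_of_ne_zero hm0
    rw [hval, mul_pow] at hTe
    nlinarith
  set Δ : ℤ := ∑ x, S.deg x * S.deg x with hΔ
  have hΔpos : 0 < Δ :=
    lt_of_lt_of_le (mul_pos (S.deg_pos e) (S.deg_pos e))
      (Finset.single_le_sum (f := fun x => S.deg x * S.deg x)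
        (fun x _ => mul_self_nonneg _) (Finset.mem_univ e))
  have hΔ0 : (Δ : ℂ) ≠ 0 := by exact_mod_cast hΔpos.ne'
  -- completeness
  let V : Fin 5 → ι → ℤ := ![S.v4, S.y4, S.g, S.d 1 3, S.deg]
  let nr : Fin 5 → ℤ := ![8, 16, 4, 2, Δ]
  have horth : ∀ i j, ∑ x, V i x * V j x = if i = j then nr i else 0 := by
    intro i j
    fin_cases i <;> fin_cases j <;>
      simp [V, nr, hvv, hvy, hvg, hvd, hvδ, hyg, hyd, hyy, hyδ, hgg, hgd, hgδ, hdd, hδ, hΔ] <;>
      (first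
        | (rw [Finset.sum_congr rfl fun x _ => mul_comm _ _]; first
            | exact hvy | exact hvg | exact hvd | exact hvδ | exact hyg | exact hyd | exact hyδ
            | exact hgd | exact hgδ | exact hδ 1 3))
  have hnr : ∀ i, (nr i : ℂ) ≠ 0 := by intro i; fin_cases i <;> simp [nr, hΔ0]
  have hcompl : ∀ x z, ∑ i, (V i x : ℂ) * ((V i z : ℂ) / (nr i : ℂ)) = if x = z then 1 else 0 := by
    have hAB : (Matrix.of fun (i : Fin 5) (x : ι) => (V i x : ℂ) / (nr i : ℂ)) *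
        Matrix.of (fun (x : ι) (i : Fin 5) => (V i x : ℂ)) = 1 := by
      ext i j
      rw [Matrix.mul_apply, Matrix.one_apply]
      simp only [Matrix.of_apply, div_mul_eq_mul_div, ← Finset.sum_div]
      rw [show ∑ x, (V i x : ℂ) * (V j x : ℂ) = ((∑ x, V i x * V j x : ℤ) : ℂ) by push_cast; rfl,
        horth]
      split_ifs <;> simp [hnr]
    have hBA := (Matrix.mul_eq_one_comm_of_card_eq (Fin 5) ι ℂ (by rw [hk, Fintype.card_fin])).mp hAB
    intro x z
    have := congrFun (congrFun hBA x) z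
    simpa [Matrix.mul_apply, Matrix.one_apply] using this
  have key : ∀ x z, (S.v4 x : ℂ) * S.v4 z / 8 + (S.y4 x : ℂ) * S.y4 z / 16 +
      (S.g x : ℂ) * S.g z / 4 + (S.d 1 3 x : ℂ) * S.d 1 3 z / 2 +
      (S.deg x : ℂ) * S.deg z / (Δ : ℂ) = if x = z then 1 else 0 := by
    intro x z
    rw [← hcompl x z, Fin.sum_univ_five]
    simp [V, nr, mul_div_assoc]
  have hye : (S.y4 e : ℂ) = S.T e := by rw [hT]
  have hve' : (S.v4 e : ℂ) = S.T e := by rw [hve]
  have hTe' : (S.T e : ℂ) ^ 2 = 4 := by exact_mod_cast hTe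
  have hde : (S.deg e : ℂ) ≠ 0 := by exact_mod_cast (S.deg_pos e).ne'
  have hΔe : (Δ : ℂ) = 4 * (S.deg e : ℂ) ^ 2 := by
    have h1 := key e e
    rw [if_pos rfl, hge, h13, hye, hve'] at h1
    push_cast at h1
    have h2 : (S.deg e : ℂ) * S.deg e / (Δ : ℂ) = 1 / 4 := by
      linear_combination h1 - (3 / 16 : ℂ) * hTe'
    rw [div_eq_iff hΔ0] at h2
    linear_combination -4 * h2
  have hdx : ∀ x ∈ S.H0, 4 * (S.deg x : ℂ) =
      -(S.T e : ℂ) * (2 * S.v4 x + S.y4 x) * S.deg e := by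
    intro x hx
    have h1 := key x e
    rw [if_neg (show x ≠ e from fun hxe => heH (hxe ▸ hx)), hge, h13, hye, hve', hΔe] at h1
    push_cast at h1
    have h2 : (S.deg x : ℂ) * S.deg e / (4 * (S.deg e : ℂ) ^ 2) * (16 * S.deg e) = 4 * S.deg x := by
      field_simp; ring
    linear_combination (16 * (S.deg e : ℂ)) * h1 - h2
  have hd2 : ∀ x ∈ S.H0, 4 * S.d 1 3 x ^ 2 =
      (1 - S.v4 x * S.T x) * (3 + S.v4 x * S.T x) ∧ S.v4 x ^ 2 = 1 := by
    intro x hx
    have hv1 : S.v4 x ^ 2 = 1 := by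
      have hodd : ∀ z ∈ S.H0, (1 : ℤ) ≤ S.v4 z ^ 2 := fun z hz => by
        have h1 := (S.odd_g_iff z).mpr (S.mem_H0.mp hz)
        have h0 : S.v4 z ≠ 0 := by
          simp only [v4, d, g, Nat.cast_ofNat, Nat.cast_zero] at h1 ⊢
          omega
        exact sq_pos_of_ne_zero h0
      have h1 : ∑ z, S.v4 z ^ 2 = 8 := by simpa [pow_two] using hvv
      rw [hsplit, hve, hTe, ← Finset.add_sum_erase _ _ hx] at h1
      have h2 := Finset.sum_le_sum (s := S.H0.erase x) fun z hz => hodd z (Finset.mem_erase.mp hz).2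
      rw [Finset.sum_const, Finset.card_erase_of_mem hx, S.four.1] at h2
      have h3 := hodd x hx
      simp at h2
      omega
    have hg1 : S.g x ^ 2 = 1 := by
      have h1 := S.sum_g_sq
      rw [hsplit, hge, ← Finset.add_sum_erase _ _ hx] at h1
      have hodd : ∀ z ∈ S.H0, (1 : ℤ) ≤ S.g z ^ 2 := fun z hz => by
        have h1 := (S.odd_g_iff z).mpr (S.mem_H0.mp hz)
        have h0 : S.g z ≠ 0 := fun h0 => h1 (by rw [h0]; exact dvd_zero 2)
        exact sq_pos_of_ne_zero h0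
      have h2 := Finset.sum_le_sum (s := S.H0.erase x) fun z hz => hodd z (Finset.mem_erase.mp hz).2
      rw [Finset.sum_const, Finset.card_erase_of_mem hx, S.four.1] at h2
      have h3 := hodd x hx
      simp at h2 h1
      omega
    refine ⟨?_, hv1⟩
    have h1 := key x x
    have h2 := hdx x hx
    rw [if_pos rfl, hΔe] at h1
    have hvC : (S.v4 x : ℂ) ^ 2 = 1 := by exact_mod_cast hv1
    have hgC : (S.g x : ℂ) ^ 2 = 1 := by exact_mod_cast hg1
    have hC : (4 * S.d 1 3 x ^ 2 : ℂ) =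
        (1 - S.v4 x * S.T x) * (3 + S.v4 x * S.T x) := by
      rw [hT]
      have h3 : (4 * (S.deg x : ℂ)) ^ 2 =
          (-(S.T e : ℂ) * (2 * S.v4 x + S.y4 x) * S.deg e) ^ 2 := by rw [h2]
      have hsq : 4 * (S.deg x : ℂ) ^ 2 = (2 * S.v4 x + S.y4 x) ^ 2 * (S.deg e : ℂ) ^ 2 := by
        linear_combination h3 / 4 + ((2 * (S.v4 x : ℂ) + S.y4 x) ^ 2 * (S.deg e : ℂ) ^ 2 / 4) * hTe'
      have hq : (S.deg x : ℂ) * S.deg x / (4 * (S.deg e : ℂ) ^ 2) =
          (2 * (S.v4 x : ℂ) + S.y4 x) ^ 2 / 16 := by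
        rw [div_eq_iff (mul_ne_zero (by norm_num) (pow_ne_zero 2 hde))]
        linear_combination hsq / 4
      linear_combination 8 * h1 - 8 * hq + ((S.y4 x : ℂ) ^ 2 - 3) * hvC - 2 * hgC
    exact_mod_cast hC
  -- the sum
  obtain ⟨s, hs, hse⟩ : ∃ s : ℤ, (s = 1 ∨ s = -1) ∧ S.T e = 2 * s := by
    rcases (by
      have : (S.T e - 2) * (S.T e + 2) = 0 := by linarith
      rcases mul_eq_zero.mp this with h' | h'
      · exact Or.inl (by omega)
      · exact Or.inr (by omega) : S.T e = 2 ∨ S.T e = -2) with h' | h'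
    · exact ⟨1, Or.inl rfl, by rw [h']; rfl⟩
    · exact ⟨-1, Or.inr rfl, by rw [h']; rfl⟩
  refine ⟨e, hhte, 16 * s, by rcases hs with rfl | rfl <;> simp, fun w hw => ?_⟩
  have hterm : ∀ x ∈ S.H0, 3 * (S.deg e : ℂ) *
      ((S.T x : ℂ) * ((S.g x : ℂ) + w * (S.d 1 3 x : ℂ)) ^ 2 / (S.deg x : ℂ)) =
      -(2 * (s : ℂ)) * (9 - 9 * ((S.v4 x * S.T x : ℤ) + 3 : ℂ) +
        (7 / 2) * ((S.v4 x * S.T x : ℤ) + 3 : ℂ) * ((S.v4 x * S.T x : ℤ) + 1 : ℂ)) +
      12 * (s : ℂ) * w * ((S.g x : ℂ) * (S.d 1 3 x : ℂ)) := by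
    intro x hx
    obtain ⟨hd, hv⟩ := hd2 x hx
    have hdeg := hdx x hx
    have hdC : (S.deg x : ℂ) ≠ 0 := by exact_mod_cast (S.deg_pos x).ne'
    have hodd : ¬ (2 : ℤ) ∣ S.T x := (S.odd_T_iff x).mpr (S.mem_H0.mp hx)
    have hnn : 0 ≤ (1 - S.v4 x * S.T x) * (3 + S.v4 x * S.T x) := by
      rw [← hd]; positivity
    have hv2 : S.v4 x = 1 ∨ S.v4 x = -1 := sq_eq_one_iff.mp hv
    have hg2 : (S.g x : ℂ) ^ 2 = 1 := by
      have h1 := key x x
      have : (S.g x) ^ 2 = 1 := by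
        have h1 := S.sum_g_sq
        rw [hsplit, hge, ← Finset.add_sum_erase _ _ hx] at h1
        have h2 := Finset.sum_le_sum (s := S.H0.erase x) (f := fun _ => (1 : ℤ))
          (g := fun z => S.g z ^ 2) fun z hz => by
            have h0 : S.g z ≠ 0 := fun h0 =>
              (S.odd_g_iff z).mpr (S.mem_H0.mp (Finset.mem_erase.mp hz).2) (by rw [h0]; exact dvd_zero 2)
            exact sq_pos_of_ne_zero h0
        rw [Finset.sum_const, Finset.card_erase_of_mem hx, S.four.1] at h2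
        have h0 : S.g x ≠ 0 := fun h0 =>
          (S.odd_g_iff x).mpr (S.mem_H0.mp hx) (by rw [h0]; exact dvd_zero 2)
        have h3 : 1 ≤ S.g x ^ 2 := sq_pos_of_ne_zero h0
        simp at h1 h2
        omega
      exact_mod_cast this
    obtain ⟨t, ht, htd⟩ : ∃ t : ℤ, S.v4 x * S.T x = t ∧
        (t = -3 ∧ S.d 1 3 x = 0 ∨ t = -1 ∧ S.d 1 3 x ^ 2 = 1 ∨ t = 1 ∧ S.d 1 3 x = 0) := by
      refine ⟨_, rfl, ?_⟩
      have hb1 : -3 ≤ S.v4 x * S.T x := by nlinarith
      have hb2 : S.v4 x * S.T x ≤ 1 := by nlinarith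
      have hodd' : ¬ (2 : ℤ) ∣ S.v4 x * S.T x := by
        rcases hv2 with h' | h' <;> simp [h', hodd]
      rcases (by omega : S.v4 x * S.T x = -3 ∨ S.v4 x * S.T x = -1 ∨ S.v4 x * S.T x = 1) with
        h' | h' | h' <;> rw [h'] at hd <;> simp only [h']
      · exact Or.inl ⟨trivial, pow_eq_zero_iff two_ne_zero |>.mp (by linarith)⟩
      · exact Or.inr (Or.inl ⟨trivial, by linarith⟩)
      · exact Or.inr (Or.inr ⟨trivial, pow_eq_zero_iff two_ne_zero |>.mp (by linarith)⟩)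
    rw [ht]
    have hTx : (S.T x : ℂ) = S.v4 x * t := by
      rw [← ht]; push_cast
      rcases hv2 with h' | h' <;> simp [h']
    have hdeg' : 4 * (S.deg x : ℂ) = -(2 * (s : ℂ)) * ((S.v4 x : ℂ) * (2 + t)) * S.deg e := by
      rw [hdeg, hse, show (S.y4 x : ℂ) = (S.T x : ℂ) by rw [hT], hTx]
      push_cast
      ring
    have hsC : (s : ℂ) ^ 2 = 1 := by rcases hs with rfl | rfl <;> norm_num
    have hvC : (S.v4 x : ℂ) ^ 2 = 1 := by exact_mod_cast hv
    have h2t : (2 : ℂ) + t ≠ 0 := by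
      have : (2 : ℤ) + t ≠ 0 := by rcases htd with ⟨h', -⟩ | ⟨h', -⟩ | ⟨h', -⟩ <;> omega
      exact_mod_cast this
    have hinv : (S.deg x : ℂ)⁻¹ = -2 / (2 + (t : ℂ)) * s * S.v4 x * (S.deg e : ℂ)⁻¹ := by
      refine inv_eq_of_mul_eq_one_right ?_
      rw [show (S.deg x : ℂ) = -(s : ℂ) * S.v4 x * (2 + t) * S.deg e / 2 by
        linear_combination hdeg' / 4]
      field_simp
      linear_combination hsC * (S.v4 x : ℂ) ^ 2 + hvC
    rw [div_eq_mul_inv, hinv, hTx]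
    rcases htd with ⟨rfl, hd0⟩ | ⟨rfl, hd1⟩ | ⟨rfl, hd0⟩
    · rw [hd0]; push_cast; field_simp
      linear_combination (18 * (s : ℂ)) * ((S.g x : ℂ) ^ 2 * hvC + hg2)
    · have hd1' : (S.d 1 3 x : ℂ) ^ 2 = 1 := by exact_mod_cast hd1
      push_cast; field_simp
      linear_combination (6 * (s : ℂ) * ((S.g x : ℂ) + w * S.d 1 3 x) ^ 2) * hvC +
        6 * (s : ℂ) * hg2 + 6 * (s : ℂ) * w ^ 2 * hd1' + 6 * (s : ℂ) * hw
    · rw [hd0]; push_cast; field_simp
      linear_combination (-6 * (s : ℂ)) * ((S.g x : ℂ) ^ 2 * hvC + hg2)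
  have ht1 : ∑ x ∈ S.H0, S.v4 x * S.T x = -4 := by
    have h1 := hvy
    rw [hsplit, hve] at h1
    rw [← hT e] at h1
    simp only [hT] at hTe h1 ⊢
    linarith [pow_two (S.y4 e)]
  have ht2 : ∑ x ∈ S.H0, (S.v4 x * S.T x) ^ 2 = 12 := by
    have h1 := S.sumT
    rw [hsplit, hTe] at h1
    rw [Finset.sum_congr rfl (g := fun x => S.T x ^ 2) fun x hx => by
      rw [mul_pow, (hd2 x hx).2, one_mul]]
    push_cast at h1
    linarith
  have hgd' : ∑ x ∈ S.H0, S.g x * S.d 1 3 x = 0 := by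
    have h1 := hgd
    rw [hsplit, hge, zero_mul, add_zero] at h1
    exact h1
  rw [hsplit, hge, h13]
  push_cast
  simp only [mul_zero, add_zero, ne_eq, OfNat.ofNat_ne_zero, not_false_eq_true, zero_pow, zero_div]
  rw [Finset.mul_sum, Finset.sum_congr rfl hterm]
  have e1 : ∑ x ∈ S.H0, ((S.v4 x * S.T x : ℤ) : ℂ) = -4 := by
    rw [← Int.cast_sum, ht1]; norm_num
  have e2 : ∑ x ∈ S.H0, ((S.v4 x * S.T x : ℤ) : ℂ) ^ 2 = 12 := by
    have := congrArg (fun z : ℤ => (z : ℂ)) ht2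
    push_cast at this ⊢
    exact this
  have e3 : ∑ x ∈ S.H0, (S.g x : ℂ) * (S.d 1 3 x : ℂ) = 0 := by
    have := congrArg (fun z : ℤ => (z : ℂ)) hgd'
    push_cast at this
    exact this
  have e0 : ∑ x ∈ S.H0, (1 : ℂ) = 4 := by simp [S.four.1]
  calc _ = ∑ x ∈ S.H0, (-(7 * (s : ℂ)) * ((S.v4 x * S.T x : ℤ) : ℂ) ^ 2 -
        10 * (s : ℂ) * ((S.v4 x * S.T x : ℤ) : ℂ) + 15 * (s : ℂ) * 1 +
        12 * (s : ℂ) * w * ((S.g x : ℂ) * (S.d 1 3 x : ℂ))) :=
        Finset.sum_congr rfl fun x _ => by ring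
    _ = _ := by
        simp only [Finset.sum_add_distrib, Finset.sum_sub_distrib, ← Finset.mul_sum, e0, e1, e2, e3]
        ring

end Cfsg.Agent.BC84.Dihedral.CountData
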