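import Cfsg.Agent.BC85.Pairs.NilpotentFusion
import Cfsg.Agent.BC85.Pairs.AbelianInertia
import Cfsg.Agent.BC85.Star.Nilpotent
import Cfsg.Agent.ZStar.DihedralBlock.Sections
import Mathlib.GroupTheory.SpecificGroups.Dihedral

/-!
# Dihedral defect groups: the elements and the nilpotency of central local blocks
-/

set_option autoImplicit false
set_option linter.unusedSectionVars false

namespace Cfsg.Agent.BC84.Dihedral

open BlocksCore BlocksDefect BC85

universe u

variable {G : Type u} [Group G]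

/-- `D` is dihedral of order `4 h` with `r` a rotation generating the cyclic subgroup of index two. -/
structure DihData (D : Subgroup G) (r : G) (h : ℕ) : Prop where
  mem : r ∈ D
  order : orderOf r = 2 * h
  pow : ∃ a : ℕ, 1 ≤ a ∧ h = 2 ^ a
  flip : ∀ x ∈ D, x ∉ Subgroup.zpowers r → x * x = 1 ∧ x * r * x⁻¹ = r⁻¹
  card : Nat.card D = 4 * h

theorem exists_dihData {D : Subgroup G} {n : ℕ} (hn : 3 ≤ n)
    (hdih : Nonempty (D ≃* DihedralGroup (2 ^ (n - 1)))) : ∃ r, DihData D r (2 ^ (n - 2)) := by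
  obtain ⟨φ⟩ := hdih
  have hN : 2 ^ (n - 1) = 2 * 2 ^ (n - 2) := by rw [← pow_succ']; congr 1; omega
  have : NeZero (2 ^ (n - 1)) := ⟨pow_ne_zero _ two_ne_zero⟩
  set s : D := φ.symm (DihedralGroup.r 1) with hs
  refine ⟨(s : G), s.2, ?_, ⟨n - 2, by omega, rfl⟩, fun x hx hxr => ?_, ?_⟩
  · rw [Subgroup.orderOf_coe, hs, φ.symm.orderOf_eq, DihedralGroup.orderOf_r_one, hN]
  · cases hy : φ ⟨x, hx⟩ with
    | r i =>
      exfalso
      have he : (⟨x, hx⟩ : D) = s ^ i.val := by
        rw [hs, ← map_pow, DihedralGroup.r_one_pow, ZMod.natCast_zmod_val, ← hy, φ.symm_apply_apply]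
      have := congrArg Subtype.val he
      rw [Subgroup.coe_pow] at this
      refine hxr ?_
      show (⟨x, hx⟩ : D).val ∈ _
      rw [this]
      exact Subgroup.pow_mem _ (Subgroup.mem_zpowers _) _
    | sr i =>
      have h1 : (⟨x, hx⟩ : D) * ⟨x, hx⟩ = 1 := φ.injective (by
        rw [map_mul, hy, DihedralGroup.sr_mul_self, map_one])
      have h2 : (⟨x, hx⟩ : D) * s * (⟨x, hx⟩ : D)⁻¹ = s⁻¹ := φ.injective (by
        rw [map_mul, map_mul, map_inv, map_inv, hy, hs, φ.apply_symm_apply]
        simp)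
      exact ⟨congrArg Subtype.val h1, congrArg Subtype.val h2⟩
  · rw [Nat.card_congr φ.toEquiv, DihedralGroup.nat_card, hN]; ring

namespace DihData

variable {D : Subgroup G} {r : G} {h : ℕ} (S : DihData D r h)
include S

theorem two_le : 2 ≤ h := by
  obtain ⟨a, ha, rfl⟩ := S.pow
  calc 2 = 2 ^ 1 := rfl
    _ ≤ _ := Nat.pow_le_pow_right (by norm_num) ha

theorem zpowers_le : Subgroup.zpowers r ≤ D := Subgroup.zpowers_le.mpr S.mem

theorem pow_period : r ^ (2 * h) = 1 := by rw [← S.order, pow_orderOf_eq_one]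

theorem pow_mul_self : r ^ h * r ^ h = 1 := by rw [← pow_add, ← two_mul, S.pow_period]

theorem pow_half_ne_one : r ^ h ≠ 1 := fun he => by
  have := orderOf_dvd_of_pow_eq_one he
  rw [S.order] at this
  have := Nat.le_of_dvd (by have := S.two_le; omega) this
  have := S.two_le
  omega

theorem sq_ne_one : r * r ≠ 1 := fun he => by
  have := orderOf_dvd_of_pow_eq_one (show r ^ 2 = 1 by rw [pow_two, he])
  rw [S.order] at this
  have := Nat.le_of_dvd (by norm_num) this
  have := S.two_le
  omega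

theorem flip_zpow {x : G} (hx : x ∈ D) (hxr : x ∉ Subgroup.zpowers r) (c : ℤ) :
    x * r ^ c * x⁻¹ = (r ^ c)⁻¹ := by
  rw [← conj_zpow, (S.flip x hx hxr).2, inv_zpow]

/-- Elements of the rotation subgroup are conjugated to themselves or to their inverses. -/
theorem conj_rot {x y : G} (hx : x ∈ D) (hy : y ∈ Subgroup.zpowers r) :
    x * y * x⁻¹ = y ∨ x * y * x⁻¹ = y⁻¹ := by
  obtain ⟨c, rfl⟩ := Subgroup.mem_zpowers_iff.mp hy
  by_cases hxr : x ∈ Subgroup.zpowers r
  · obtain ⟨d, rfl⟩ := Subgroup.mem_zpowers_iff.mp hxr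
    exact Or.inl (mul_inv_eq_iff_eq_mul.mpr (((Commute.refl r).zpow_zpow d c)).eq)
  · exact Or.inr (S.flip_zpow hx hxr c)

/-- The central involution. -/
theorem commute_half {x : G} (hx : x ∈ D) : Commute x (r ^ h) := by
  rcases S.conj_rot hx (Subgroup.pow_mem _ (Subgroup.mem_zpowers r) h) with he | he
  · exact mul_inv_eq_iff_eq_mul.mp he
  · rw [inv_eq_of_mul_eq_one_right S.pow_mul_self] at he
    exact mul_inv_eq_iff_eq_mul.mp he

theorem le_centralizer : D ≤ Subgroup.centralizer ((Subgroup.zpowers (r ^ h) : Subgroup G) : Set G) := by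
  intro x hx
  refine Subgroup.mem_centralizer_iff.mpr fun y hy => ?_
  obtain ⟨c, rfl⟩ := Subgroup.mem_zpowers_iff.mp hy
  exact ((S.commute_half hx).zpow_right c).eq.symm

theorem mem_rot_of_sq {x : G} (hx : x ∈ D) (h2 : x * x ≠ 1) : x ∈ Subgroup.zpowers r := by
  by_contra hxr
  exact h2 (S.flip x hx hxr).1

theorem mem_rot_of_commute {x : G} (hx : x ∈ D) {y : G} (hy : y ∈ Subgroup.zpowers r)
    (hy2 : y * y ≠ 1) (hc : Commute x y) : x ∈ Subgroup.zpowers r := by
  by_contra hxr
  obtain ⟨c, rfl⟩ := Subgroup.mem_zpowers_iff.mp hy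
  have h1 := S.flip_zpow hx hxr c
  rw [hc.eq, mul_inv_cancel_right] at h1
  exact hy2 (eq_inv_iff_mul_eq_one.mp h1)

/-- The quotient of two reflections is a rotation. -/
theorem refl_mul_refl {x y : G} (hx : x ∈ D) (hy : y ∈ D) (hxr : x ∉ Subgroup.zpowers r)
    (hyr : y ∉ Subgroup.zpowers r) : x * y ∈ Subgroup.zpowers r := by
  refine S.mem_rot_of_commute (D.mul_mem hx hy) (Subgroup.mem_zpowers r) S.sq_ne_one ?_
  refine mul_inv_eq_iff_eq_mul.mp ?_
  calc x * y * r * (x * y)⁻¹ = x * (y * r * y⁻¹) * x⁻¹ := by group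
    _ = x * r⁻¹ * x⁻¹ := by rw [(S.flip y hy hyr).2]
    _ = (x * r * x⁻¹)⁻¹ := by group
    _ = r := by rw [(S.flip x hx hxr).2, inv_inv]

/-- The centralizer in `D` of a rotation of order more than two. -/
theorem centralizer_inf {y : G} (hy : y ∈ Subgroup.zpowers r) (hy2 : y * y ≠ 1) :
    D ⊓ Subgroup.centralizer ({y} : Set G) = Subgroup.zpowers r := by
  refine le_antisymm (fun x hx => S.mem_rot_of_commute hx.1 hy hy2
    (Subgroup.mem_centralizer_singleton_iff.mp hx.2)) (le_inf S.zpowers_le fun x hx => ?_)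
  obtain ⟨c, rfl⟩ := Subgroup.mem_zpowers_iff.mp hy
  obtain ⟨d, rfl⟩ := Subgroup.mem_zpowers_iff.mp hx
  exact Subgroup.mem_centralizer_singleton_iff.mpr ((Commute.refl r).zpow_zpow d c).eq

theorem card_rot : Nat.card (Subgroup.zpowers r) = 2 * h := by rw [Nat.card_zpowers, S.order]

theorem subgroupOf {H : Subgroup G} (hle : D ≤ H) :
    DihData (D.subgroupOf H) (⟨r, hle S.mem⟩ : H) h where
  mem := S.mem
  order := by rw [← Subgroup.orderOf_coe]; exact S.order
  pow := S.pow
  flip := fun x hx hxr => by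
    obtain ⟨h1, h2⟩ := S.flip (x : G) hx fun hm => hxr <| by
      obtain ⟨c, hc⟩ := Subgroup.mem_zpowers_iff.mp hm
      exact Subgroup.mem_zpowers_iff.mpr ⟨c, Subtype.ext (by rw [Subgroup.coe_zpow]; exact hc)⟩
    exact ⟨Subtype.ext h1, Subtype.ext h2⟩
  card := by rw [card_subgroupOf hle]; exact S.card

end DihData

variable [Fintype G] [Fact (Nat.Prime 2)] {M : Ideal AlgInt}
  {B : Set (IrrCharacter G)} {P : Subgroup G}
  {e : Set (IrrCharacter (Subgroup.centralizer (P : Set G)))} {r : G} {h : ℕ}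

/-- An element of odd order normalizing a subgroup of a dihedral group and fixing the central
involution centralizes it. -/
theorem centralizes_of_odd (S : DihData P r h) {Q : Subgroup G} (hQ : Q ≤ P) {x : G}
    (hxN : x ∈ Subgroup.normalizer (Q : Set G)) (hx : ¬ 2 ∣ orderOf x)
    (hz : Commute x (r ^ h)) : x ∈ Subgroup.centralizer (Q : Set G) := by
  set m := orderOf x with hm
  have hP : IsPGroup 2 P := by
    obtain ⟨a, -, ha⟩ := S.pow
    refine IsPGroup.of_card (n := a + 2) ?_
    rw [S.card, ha]; ring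
  have hconj : ∀ y ∈ Q, x * y * x⁻¹ ∈ Q := fun y hy =>
    (Subgroup.mem_normalizer_iff.mp hxN y).mp hy
  -- the rotations of `Q` are fixed
  have hrot : ∀ y ∈ Q, y ∈ Subgroup.zpowers r → x * y * x⁻¹ = y := by
    intro y hy hyr
    by_cases h2 : y * y = 1
    · by_cases h1 : y = 1
      · simp [h1]
      obtain ⟨k, hk, rfl⟩ : ∃ k : ℕ, k < 2 * h ∧ r ^ k = y := by
        obtain ⟨k, hk⟩ := mem_powers_iff_mem_zpowers.mpr hyr
        exact ⟨k % (2 * h), Nat.mod_lt _ (by have := S.two_le; omega), by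
          rw [← S.order, pow_mod_orderOf]; exact hk⟩
      have hdvd : 2 * h ∣ 2 * k := by
        rw [← S.order]; exact orderOf_dvd_of_pow_eq_one (by rw [two_mul, pow_add]; exact h2)
      obtain ⟨c, hc⟩ := Nat.dvd_of_mul_dvd_mul_left two_pos hdvd
      rcases c with _ | _ | c
      · exact absurd (by rw [hc, mul_zero, pow_zero]) h1
      · rw [hc, zero_add, mul_one]; exact mul_inv_eq_iff_eq_mul.mpr hz.eq
      · exfalso
        have : h * 2 ≤ h * (c + 1 + 1) := Nat.mul_le_mul_left _ (by omega)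
        omega
    · have hy' : x * y * x⁻¹ ∈ Subgroup.zpowers r := by
        refine S.mem_rot_of_sq (hQ (hconj y hy)) fun he => h2 ?_
        calc y * y = x⁻¹ * (x * y * x⁻¹ * (x * y * x⁻¹)) * x := by group
          _ = 1 := by rw [he]; group
      -- conjugation by `x` on the subgroup generated by `y`
      set A := Subgroup.zpowers y
      have hsame : A.map (MulAut.conj x).toMonoidHom = A := by
        rw [MonoidHom.map_zpowers]
        exact ZStar.Dih.zpowers_eq_of_orderOf_eq hy' hyr (orderOf_conjugate y x)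
      let α : MulAut A :=
        ((MulAut.conj x).subgroupMap A).trans (MulEquiv.subgroupCongr hsame)
      have hα : ∀ a : A, ((α a : A) : G) = x * a * x⁻¹ := fun a => rfl
      have hpow : ∀ (i : ℕ) (a : A), (((α ^ i) a : A) : G) = x ^ i * a * (x ^ i)⁻¹ := by
        intro i
        induction i with
        | zero => intro a; simp
        | succ i ih => intro a; rw [pow_succ', MulAut.mul_apply, hα, ih, pow_succ']; group
      have hαm : α ^ m = 1 := MulEquiv.ext fun a => Subtype.ext (by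
        rw [hpow, hm, pow_orderOf_eq_one]; simp)
      have hzA : r ^ h ∈ A := by
        obtain ⟨k, hk⟩ := mem_powers_iff_mem_zpowers.mpr hyr
        have hk' : r ^ k = y := hk
        obtain ⟨a, ha, hha⟩ := S.pow
        have hk0 : k ≠ 0 := fun h0 => h2 (by rw [← hk', h0]; simp)
        obtain ⟨b, u, hu, hku⟩ := Nat.exists_eq_two_pow_mul_odd hk0
        have hb : b ≤ a := by
          by_contra hab
          apply h2
          rw [← hk', ← pow_add, hku]
          obtain ⟨c, hc⟩ : 2 * h ∣ 2 ^ b * u + 2 ^ b * u := by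
            rw [hha, ← pow_succ']
            exact ((pow_dvd_pow 2 (by omega)).mul_right u).add ((pow_dvd_pow 2 (by omega)).mul_right u)
          rw [hc, pow_mul, S.pow_period, one_pow]
        refine Subgroup.mem_zpowers_iff.mpr ⟨(2 ^ (a - b) : ℕ), ?_⟩
        rw [zpow_natCast, ← hk', ← pow_mul, hku, mul_right_comm, ← pow_add, Nat.add_sub_cancel' hb, ← hha]
        obtain ⟨w, rfl⟩ := hu
        rw [show h * (2 * w + 1) = 2 * h * w + h by ring, pow_add, pow_mul, S.pow_period, one_pow,
          one_mul]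
      have hA : IsPGroup 2 A := hP.to_le ((Subgroup.zpowers_le.mpr (hQ hy)))
      have hαone := eq_of_fixed_cyclic hA α hαm hx (x := ⟨r ^ h, hzA⟩)
        (fun he => S.pow_half_ne_one (congrArg Subtype.val he))
        (Subtype.ext (mul_inv_eq_iff_eq_mul.mpr hz.eq))
      have := congrArg Subtype.val (DFunLike.congr_fun hαone ⟨y, Subgroup.mem_zpowers y⟩)
      rwa [hα] at this
  refine Subgroup.mem_centralizer_iff.mpr fun y hy => ?_
  suffices x * y * x⁻¹ = y from ((mul_inv_eq_iff_eq_mul.mp this)).symm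
  by_cases hyr : y ∈ Subgroup.zpowers r
  · exact hrot y hy hyr
  have hy' : x * y * x⁻¹ ∉ Subgroup.zpowers r := fun hm' => by
    have h1 := hrot _ (hconj y hy) hm'
    have h2 : x * y * x⁻¹ = y :=
      mul_left_cancel (mul_right_cancel h1)
    exact hyr (h2 ▸ hm')
  set c := y * (x * y * x⁻¹) with hc
  have hcr : c ∈ Subgroup.zpowers r := S.refl_mul_refl (hQ hy) (hQ (hconj y hy)) hyr hy'
  have hfix := hrot c (Q.mul_mem hy (hconj y hy)) hcr
  have hyy := (S.flip y (hQ hy) hyr).1
  have hstep : x * y * x⁻¹ = y * c := by rw [hc, ← mul_assoc, hyy, one_mul]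
  have hiter : ∀ i : ℕ, x ^ i * y * (x ^ i)⁻¹ = y * c ^ i := by
    intro i
    induction i with
    | zero => simp
    | succ i ih =>
      calc x ^ (i + 1) * y * (x ^ (i + 1))⁻¹ = x * (x ^ i * y * (x ^ i)⁻¹) * x⁻¹ := by
            rw [pow_succ']; group
        _ = x * y * x⁻¹ * (x * c ^ i * x⁻¹) := by rw [ih]; group
        _ = y * c * c ^ i := by rw [hstep, ← conj_pow, hfix]
        _ = _ := by rw [pow_succ']; group
  have hcm : c ^ m = 1 := by
    have := hiter m
    rw [hm, pow_orderOf_eq_one] at this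
    simpa using this.symm
  have hc1 : c = 1 := by
    obtain ⟨k, hk⟩ := IsPGroup.iff_orderOf.mp hP ⟨c, S.zpowers_le hcr⟩
    rw [Subgroup.orderOf_mk] at hk
    rw [← orderOf_eq_one_iff]
    refine Nat.Coprime.eq_one_of_dvd ?_ (orderOf_dvd_of_pow_eq_one hcm)
    rw [hk]
    exact Nat.Coprime.pow_left _ ((Nat.prime_two.coprime_iff_not_dvd).mpr hx)
  rw [hstep, hc1, mul_one]

/-- A block with dihedral defect group and central involution of it central is nilpotent. -/
theorem nilpotent_of_central (hM : IsPModular 2 M) (hmax : IsMaximalBrauerPair 2 M B P e)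
    (S : DihData P r h) (hz : r ^ h ∈ Subgroup.center G) : IsNilpotentBlock 2 M B :=
  isNilpotentBlock_of_below hM hmax fun Q _ hQ x hx hreg =>
    centralizes_of_odd S (subpairLE_le hQ) hx.1 hreg (Subgroup.mem_center_iff.mp hz x)

end Cfsg.Agent.BC84.Dihedral
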