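import Cfsg.Agent.BC84.Dihedral.Small

/-!
# Blocks with dihedral defect group: the numbers of characters
-/

set_option autoImplicit false
set_option linter.unusedSectionVars false
set_option linter.style.haveILetI false

namespace Cfsg.Agent.BC84.Dihedral

open BlocksCore BlocksDefect BC85 BC85.Star
open scoped Classical ComplexConjugate

universe u

theorem invariants {G : Type u} [Group G] [Fintype G] [Fact (Nat.Prime 2)] {M : Ideal AlgInt}
    [M.IsPrime] (hM : IsPModular 2 M) {B : Set (IrrCharacter G)} {D : Subgroup G}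
    {e : Set (IrrCharacter (Subgroup.centralizer (D : Set G)))}
    (hmax : IsMaximalBrauerPair 2 M B D e) {r : G} {h : ℕ} (S : DihData D r h) [Fintype B] :
    Fintype.card B = h + 3 ∧ 1 ≤ blockRank 2 B ∧ blockRank 2 B ≤ 3 ∧
      (Finset.univ.filter fun χ : B => blockHeight 2 B ((χ : IrrCharacter G) : G → ℂ) = 0).card = 4 ∧
      ∀ χ : B, blockHeight 2 B ((χ : IrrCharacter G) : G → ℂ) ≤ 1 := by
  haveI : NeZero (2 * h) := ⟨S.two_mul_ne_zero⟩
  obtain ⟨Θ, A, R⟩ := exists_rotColumns hM hmax S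
  obtain ⟨C, hht, hdeg, ha, hT⟩ := exists_countData R
  have hpow : h = 2 ∨ h = 4 ∨ 7 ≤ h := by
    obtain ⟨a, ha1, rfl⟩ := S.pow
    rcases a with _ | _ | _ | a
    · omega
    · exact Or.inl rfl
    · exact Or.inr (Or.inl rfl)
    · exact Or.inr (Or.inr (le_trans (by norm_num) (Nat.pow_le_pow_right two_pos
        (show 3 ≤ a + 1 + 1 + 1 by omega))))
  have hcard : Fintype.card B = h + 3 := by
    refine C.card_eq_of_ne_four hpow ?_
    rintro ⟨rfl, h5⟩
    exact card_ne_five S R C hht hdeg ha hT h5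
  obtain ⟨h1, h2⟩ := rank_add_le R
  refine ⟨hcard, h1, by omega, ?_, fun χ => ?_⟩
  · rw [← C.four.1]
    congr 1
    ext χ
    simp [CountData.mem_H0, hht]
  · rw [← hht]
    exact C.upper.2 hcard χ

end Cfsg.Agent.BC84.Dihedral
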