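import Cfsg.Agent.BC84.Dihedral.Data
import Cfsg.Agent.BC84.Dihedral.Five
import Cfsg.Agent.BC84.Dihedral.CentralDefect

/-!
# No five members with defect group dihedral of order sixteen

The product of the class functions of the two subsections at `z` and `r` and of the block has
integral values; read in the centralizer of `r` it lies in the ideal, read in the group it is a unit.
-/

set_option autoImplicit false
set_option linter.unusedSectionVars false
set_option linter.style.haveILetI false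

namespace Cfsg.Agent.BC84.Dihedral

open BlocksCore BlocksDefect BC85 BC85.Star
open scoped Classical ComplexConjugate

universe u

section Columns

variable {G : Type u} [Group G] [Fintype G] {p : ℕ} [Fact p.Prime] {M : Ideal AlgInt}
  [hP : M.IsPrime] {hM : IsPModular p M} {B : Set (IrrCharacter G)} {P : Subgroup G}
  {e : Set (IrrCharacter (Subgroup.centralizer (P : Set G)))}
  {hmax : IsMaximalBrauerPair p M B P e}

theorem omega_sectionFun {v : P} {T : IrrCharacter G → ℂ} {Q : G → ℂ} {m : ℕ}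
    (hcol : IsColumn hM hmax v T Q m) {χ : IrrCharacter G} (hχ : χ ∈ B) :
    omega (χ : G → ℂ) (sectionFun hM hmax v) =
      classCount hM hmax v * (T χ * Q 1) / (χ : G → ℂ) 1 := by
  rw [omega_eq_sum, sum_sectionFun_mul hM hmax (irr_class χ), hcol.proj_eq χ hχ 1 (one_mem_sect _)]

/-- The product of two subsections with the block, summed against a column. -/
theorem sum_conv_sections {v w : P} {T T' : IrrCharacter G → ℂ} {Q Q' : G → ℂ} {m m' : ℕ}
    (hcol : IsColumn hM hmax v T Q m) (hcol' : IsColumn hM hmax w T' Q' m') :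
    (m' : ℂ) * (Nat.card (Subgroup.centralizer ({(v : G)} : Set G)) : ℂ) *
        ∑ s ∈ sect p (w : G),
          conv (conv (sectionFun hM hmax v) (sectionFun hM hmax w)) (blockCoeff B) ((w : G) * s) *
            Q' s =
      (Nat.card G : ℂ) * (Q 1 * Q' 1) *
        ∑ χ ∈ CharCore.SubContrib.mems B, T χ * (T' χ * conj (T' χ)) / (χ : G → ℂ) 1 := by
  set Av := sectionFun hM hmax v
  set Aw := sectionFun hM hmax w
  set F := conv (conv Av Aw) (blockCoeff B) with hF
  have hAv := (isIntClassFun_sectionFun hM hmax v).1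
  have hAw := (isIntClassFun_sectionFun hM hmax w).1
  have hFc : IsClassFunction G F :=
    isClassFunction_conv (isClassFunction_conv hAv hAw) (isClassFunction_blockCoeff B)
  have hG : (Nat.card G : ℂ) ≠ 0 := Nat.cast_ne_zero.mpr Nat.card_pos.ne'
  have hexp : ∀ x, (Nat.card G : ℂ) * F x = ∑ χ ∈ CharCore.SubContrib.mems B,
      (classCount hM hmax v * classCount hM hmax w * Q 1 * Q' 1) *
        (T χ * T' χ / (χ : G → ℂ) 1) * conj ((χ : G → ℂ) x) := by
    intro x
    have hc : IsClassFunction G fun g => conj (F g) := fun g t => congrArg conj (hFc g t)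
    have h1 := congrArg conj (congrFun (CharCore.eq_sum_classInner hc) x)
    rw [Complex.conj_conj] at h1
    rw [h1, Finset.sum_apply, map_sum, Finset.mul_sum]
    have h2 : ∀ χ : IrrCharacter G, (Nat.card G : ℂ) *
        conj ((classInner (fun g => conj (F g)) (χ : G → ℂ) • (χ : G → ℂ)) x) =
        omega (χ : G → ℂ) F * (χ : G → ℂ) 1 * conj ((χ : G → ℂ) x) := by
      intro χ
      rw [Pi.smul_apply, smul_eq_mul, map_mul, classInner, map_mul, map_inv₀, Complex.conj_natCast,
        map_sum, omega_eq_sum, div_mul_cancel₀ _ (irr_one_ne_zero χ), ← mul_assoc, ← mul_assoc,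
        mul_inv_cancel₀ hG, one_mul]
      congr 1
      exact Finset.sum_congr rfl fun g _ => by rw [map_mul, Complex.conj_conj, Complex.conj_conj]
    rw [Finset.sum_congr rfl fun χ _ => h2 χ]
    refine (Finset.sum_subset (Finset.subset_univ _) fun χ _ hχ => ?_).symm.trans
      (Finset.sum_congr rfl fun χ hχ => ?_)
    · rw [hF, omega_conv χ (isClassFunction_conv hAv hAw) (isClassFunction_blockCoeff B),
        omega_blockCoeff, Set.indicator_of_notMem fun h => hχ (CharCore.SubContrib.mem_mems.mpr h)]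
      ring
    · have hχB := CharCore.SubContrib.mem_mems.mp hχ
      rw [hF, omega_conv χ (isClassFunction_conv hAv hAw) (isClassFunction_blockCoeff B),
        omega_blockCoeff, Set.indicator_of_mem hχB, Pi.one_apply, omega_conv χ hAv hAw,
        omega_sectionFun hcol hχB, omega_sectionFun hcol' hχB]
      have := irr_one_ne_zero χ
      field_simp
  have hX : ∀ χ ∈ B, (m' : ℂ) * ∑ s ∈ sect p (w : G), conj ((χ : G → ℂ) ((w : G) * s)) * Q' s =
      (Nat.card (Subgroup.centralizer ({(w : G)} : Set G)) : ℂ) * conj (T' χ) := by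
    intro χ hχ
    obtain ⟨ψ, hψ, hne⟩ := hcol'.exists_T
    have h := hcol'.contribAt_eq hψ hχ
    rw [contribAt, ← Finset.sum_filter, ← sect, Finset.sum_congr rfl fun s hs => by
      rw [hcol'.proj_eq ψ hψ s hs, mul_assoc, mul_comm (Q' s)], ← Finset.mul_sum] at h
    exact mul_left_cancel₀ hne (by linear_combination h)
  refine mul_left_cancel₀ hG ?_
  calc (Nat.card G : ℂ) * ((m' : ℂ) * (Nat.card (Subgroup.centralizer ({(v : G)} : Set G)) : ℂ) *
        ∑ s ∈ sect p (w : G), F ((w : G) * s) * Q' s)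
      = (m' : ℂ) * (Nat.card (Subgroup.centralizer ({(v : G)} : Set G)) : ℂ) *
          ∑ s ∈ sect p (w : G), ((Nat.card G : ℂ) * F ((w : G) * s)) * Q' s := by
        simp only [mul_assoc, ← Finset.mul_sum]
        ring
    _ = (Nat.card (Subgroup.centralizer ({(v : G)} : Set G)) : ℂ) *
          ∑ χ ∈ CharCore.SubContrib.mems B, (classCount hM hmax v * classCount hM hmax w * Q 1 * Q' 1) *
            (T χ * T' χ / (χ : G → ℂ) 1) *
            ((m' : ℂ) * ∑ s ∈ sect p (w : G), conj ((χ : G → ℂ) ((w : G) * s)) * Q' s) := by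
        rw [Finset.sum_congr rfl fun s _ => by rw [hexp, Finset.sum_mul], Finset.sum_comm]
        simp only [Finset.mul_sum]
        exact Finset.sum_congr rfl fun χ _ => Finset.sum_congr rfl fun s _ => by ring
    _ = (Nat.card (Subgroup.centralizer ({(v : G)} : Set G)) : ℂ) *
          ∑ χ ∈ CharCore.SubContrib.mems B, (classCount hM hmax v * classCount hM hmax w * Q 1 * Q' 1) *
            (T χ * T' χ / (χ : G → ℂ) 1) *
            ((Nat.card (Subgroup.centralizer ({(w : G)} : Set G)) : ℂ) * conj (T' χ)) := by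
        congr 1
        exact Finset.sum_congr rfl fun χ hχ => by rw [hX χ (CharCore.SubContrib.mem_mems.mp hχ)]
    _ = _ := by
        simp only [Finset.mul_sum]
        refine Finset.sum_congr rfl fun χ _ => ?_
        have h1 := hcol.classCount_mul
        have h2 := hcol'.classCount_mul
        have := irr_one_ne_zero χ
        field_simp
        linear_combination (T χ * T' χ * conj (T' χ) * Q 1 * Q' 1 *
            (classCount hM hmax w * (Nat.card (Subgroup.centralizer ({(w : G)} : Set G)) : ℂ))) * h1 +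
          (T χ * T' χ * conj (T' χ) * Q 1 * Q' 1 * (Nat.card G : ℂ)) * h2

/-- The class function of a subsection lives on the sections of its conjugates. -/
theorem exists_conj_of_sectionFun_ne (hM : IsPModular p M) (hmax : IsMaximalBrauerPair p M B P e)
    {v : P} {g : G} (hne : sectionFun hM hmax v g ≠ 0) : ∃ t : G, t * pp p g * t⁻¹ = v := by
  obtain ⟨a, ha, hne'⟩ := Finset.exists_ne_zero_of_sum_ne_zero hne
  have he := left_ne_zero_of_mul hne'
  have hB : IsBrauerPairOf p M B a.1 a.2 := by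
    by_contra hn
    exact he (etaOf_eq_zero hM hmax hn)
  obtain ⟨x, hx, hxu⟩ := exists_conj_mem hM hmax (mem_pairsAt.mp ha).1 hB
  rw [etaOf_eq (isPairStable_classOf hM hmax v) (mem_pairsAt.mp ha).1 hx hxu, classOf] at he
  obtain ⟨t, ht, -⟩ : ∃ t : G, t * (x * pp p g * x⁻¹) * t⁻¹ = v ∧
      conjPair t (atBelow hM hmax ⟨x * pp p g * x⁻¹, hxu⟩) = atBelow hM hmax v := by
    by_contra hn
    exact he (if_neg hn)
  exact ⟨t * x, by rw [← ht]; group⟩

theorem pp_subtype {H : Subgroup G} (x : H) : pp p (x : G) = ((pp p x : H) : G) := by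
  obtain ⟨y, h1, h2, ⟨k, h3⟩, h4⟩ := pp_spec (p := p) x
  exact pp_eq ⟨(y : G), by rw [← Subgroup.coe_mul, h1], congrArg Subtype.val h2.eq,
    ⟨k, by rw [Subgroup.orderOf_coe, h3]⟩, by rwa [Subgroup.orderOf_coe]⟩

end Columns

section Sixteen

variable {G : Type u} [Group G] [Fintype G] [Fact (Nat.Prime 2)] {M : Ideal AlgInt}
  [hP : M.IsPrime] {hM : IsPModular 2 M} {B : Set (IrrCharacter G)} {D : Subgroup G}
  {e : Set (IrrCharacter (Subgroup.centralizer (D : Set G)))}
  {hmax : IsMaximalBrauerPair 2 M B D e} {r : G} [NeZero (2 * 4)]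

theorem fullyCentralized_rot_one (S : DihData D r 4) :
    (blockFusion hM hmax.1.1).IsFullyCentralized
      (Subgroup.zpowers (S.rot (1 : ZMod (2 * 4)) : G)) := by
  rw [S.rot_one]
  refine ⟨S.zpowers_le, fun R hR => ?_⟩
  obtain ⟨φ, hφ, rfl⟩ := hR
  suffices φ.range = Subgroup.zpowers r by rw [this]
  have hinj := (blockFusion hM hmax.1.1).injective_of_mem hφ
  set g : Subgroup.zpowers r := ⟨r, Subgroup.mem_zpowers r⟩
  have hg2 : φ g * φ g ≠ 1 := fun he => S.sq_ne_one (congrArg Subtype.val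
    (hinj (by rw [map_mul, map_one]; exact he) : g * g = 1))
  have hgr := S.mem_rot_of_sq (((blockFusion hM hmax.1.1).le_of_mem hφ).2 g) hg2
  refine Subgroup.eq_of_le_of_card_ge ?_ (Nat.card_congr (MonoidHom.ofInjective hinj).toEquiv).le
  rintro _ ⟨x, rfl⟩
  obtain ⟨c, hc⟩ := Subgroup.mem_zpowers_iff.mp x.2
  rw [show x = g ^ c from Subtype.ext (by rw [Subgroup.coe_zpow]; exact hc.symm), map_zpow]
  exact Subgroup.zpow_mem _ hgr c

theorem zpowers_rot_five (S : DihData D r 4) :
    Subgroup.zpowers (S.rot (5 : ZMod (2 * 4)) : G) =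
      Subgroup.zpowers (S.rot (1 : ZMod (2 * 4)) : G) := by
  refine le_antisymm (Subgroup.zpowers_le.mpr ?_) (Subgroup.zpowers_le.mpr ?_)
  · rw [S.rot_one]; exact S.rot_mem _
  · rw [show (1 : ZMod (2 * 4)) = 5 + 5 + 5 + 5 + 5 by decide]
    simp only [S.rot_add, Subgroup.coe_mul]
    have := Subgroup.mem_zpowers (S.rot (5 : ZMod (2 * 4)) : G)
    exact mul_mem (mul_mem (mul_mem (mul_mem this this) this) this) this

local notation "Kc[" x "]" =>
  Subgroup.centralizer ((Subgroup.zpowers (x : G) : Subgroup G) : Set G)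

/-- Read in the centralizer of `r` the triple product lies in the ideal. -/
theorem secPart_mem (hM : IsPModular 2 M) (hmax : IsMaximalBrauerPair 2 M B D e) (S : DihData D r 4)
    {u z v : D} (hu : u = S.rot (1 : ZMod (2 * 4))) (hz : z = S.rot (4 : ZMod (2 * 4)))
    (hv : v = S.rot (5 : ZMod (2 * 4)))
    {e' : Set (IrrCharacter (Subgroup.centralizer ((locD D (u : G)) : Set Kc[(u : G)])))}
    (hmax' : IsMaximalBrauerPair 2 M (locB hM hmax u) (locD D (u : G)) e')
    (hPZ : locD D (u : G) ≤ Subgroup.center _)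
    {η : IrrCharacter Kc[(u : G)]} (hη : η ∈ locB hM hmax u)
    (h0 : blockHeight 2 (locB hM hmax u) (η : Kc[(u : G)] → ℂ) = 0)
    (xu : locD D (u : G)) (hxu : toD xu = u) :
    MemLocalIdeal M (secPart 2 η (pullFun (Kc[(u : G)]).subtype
        (conv (conv (sectionFun hM hmax z) (sectionFun hM hmax u)) (blockCoeff B))) (xu : _)) := by
  have hzp : Subgroup.zpowers (v : G) = Subgroup.zpowers (u : G) := by
    rw [hu, hv]; exact zpowers_rot_five S
  have hι : IsCentHom (Subgroup.zpowers (u : G)) (Kc[(u : G)]).subtype := isCentHom_subtype _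
  have hPu : IsPGroup 2 (Subgroup.zpowers (u : G)) := hmax.1.1.1.to_le (Subgroup.zpowers_le.mpr u.2)
  have hAz := isIntClassFun_sectionFun hM hmax z
  have hAu := isIntClassFun_sectionFun hM hmax u
  have hE := isIntClassFun_blockCoeff hM hmax.1.2.1
  have bz := isBrFun_of_intClassFun (P := Subgroup.zpowers (u : G)) hAz
  have bu := isBrFun_of_intClassFun (P := Subgroup.zpowers (u : G)) hAu
  have bE := isBrFun_of_intClassFun (P := Subgroup.zpowers (u : G)) hE
  have cz := (isIntClassFun_pullFun hι bz).1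
  have cu := (isIntClassFun_pullFun hι bu).1
  have cE := isIntClassFun_pullFun hι bE
  -- the Brauer map is multiplicative
  have hcong : ∀ c : Kc[(u : G)], MemLocalIdeal M (pullFun (Kc[(u : G)]).subtype (conv (conv (sectionFun hM hmax z)
        (sectionFun hM hmax u)) (blockCoeff B)) c -
      conv (conv (pullFun (Kc[(u : G)]).subtype (sectionFun hM hmax z))
        (pullFun (Kc[(u : G)]).subtype (sectionFun hM hmax u))) (pullFun (Kc[(u : G)]).subtype (blockCoeff B)) c) := by
    intro c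
    have h1 := conv_pull_sub hM hPu hι (bz.conv bu) bE c
    have h2 : MemLocalIdeal M (conv (pullFun (Kc[(u : G)]).subtype (conv (sectionFun hM hmax z)
        (sectionFun hM hmax u))) (pullFun (Kc[(u : G)]).subtype (blockCoeff B)) c -
      conv (conv (pullFun (Kc[(u : G)]).subtype (sectionFun hM hmax z))
        (pullFun (Kc[(u : G)]).subtype (sectionFun hM hmax u))) (pullFun (Kc[(u : G)]).subtype (blockCoeff B)) c) := by
      rw [conv_apply, conv_apply, ← Finset.sum_sub_distrib]
      refine memLocalIdeal_sum fun y _ => ?_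
      rw [← sub_mul, mul_comm]
      exact memLocalIdeal_mul_left (cE.2 _) (conv_pull_sub hM hPu hι bz bu y)
    have := memLocalIdeal_add h1 h2
    rw [sub_add_sub_cancel] at this
    exact this
  have hsub := secPart_mem_ideal (p := 2) η (hPZ xu.2)
    (isIntClassFun_pullFun hι ((bz.conv bu).conv bE)).1
    (isClassFunction_conv (isClassFunction_conv cz cu) cE.1) hcong
  suffices h : secPart 2 η (conv (conv (pullFun (Kc[(u : G)]).subtype (sectionFun hM hmax z))
      (pullFun (Kc[(u : G)]).subtype (sectionFun hM hmax u))) (pullFun (Kc[(u : G)]).subtype (blockCoeff B))) (xu : Kc[(u : G)]) = 0 by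
    rwa [h, sub_zero] at hsub
  rw [secPart_conv hM hmax' hPZ hη h0 cz cu cE.1]
  refine Finset.sum_eq_zero fun x₁ _ => Finset.sum_eq_zero fun x₂ _ => Finset.sum_eq_zero fun x₃ _ => ?_
  split_ifs with hmul
  swap
  · rfl
  by_contra hne
  obtain ⟨hne12, hne3⟩ := mul_ne_zero_iff.mp hne
  obtain ⟨hne1, hne2⟩ := mul_ne_zero_iff.mp hne12
  -- the block is supported on the regular elements
  have h3 : (x₃ : Kc[(u : G)]) = 1 := by
    by_contra h31
    refine hne3 ?_
    rw [secPart, omega_eq_sum, Finset.sum_eq_zero, zero_div]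
    intro k _
    split_ifs with hk
    · rw [pullFun_apply, blockCoeff_eq_zero_of_dvd_orderOf hM hmax.1.2.1, zero_mul]
      by_contra hd
      rw [Subgroup.coe_subtype, Subgroup.orderOf_coe] at hd
      exact h31 (hk ▸ pp_regular hd)
    · rw [zero_mul]
  -- the first is the central involution
  have h1 : toD x₁ = z := by
    rw [secPart, omega_eq_sum] at hne1
    obtain ⟨k, -, hk⟩ := Finset.exists_ne_zero_of_sum_ne_zero (div_ne_zero_iff.mp hne1).1
    split_ifs at hk with hkx
    swap
    · simp at hk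
    obtain ⟨t, ht⟩ := exists_conj_of_sectionFun_ne hM hmax (left_ne_zero_of_mul hk)
    rw [Subgroup.coe_subtype, pp_subtype, hkx] at ht
    have hzG : (z : G) = r ^ 4 := by rw [hz, ← S.rot_half, Nat.cast_ofNat]
    have hxt : (toD x₁ : G) = t⁻¹ * (z : G) * t := by
      rw [← ht]; show ((x₁ : Kc[(u : G)]) : G) = _; group
    refine Subtype.ext ?_
    rw [hzG]
    refine S.eq_of_sq ?_ ?_ ?_
    · have hDK : D ⊓ Kc[(u : G)] = Subgroup.zpowers r := by
        rw [BlocksCore.centralizer_zpowers, hu, S.rot_one]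
        exact S.centralizer_inf (Subgroup.mem_zpowers r) S.sq_ne_one
      rw [← hDK]
      exact x₁.2
    · rw [hxt, show t⁻¹ * (z : G) * t * (t⁻¹ * (z : G) * t) = t⁻¹ * ((z : G) * z) * t by group, hzG,
        S.pow_mul_self]
      group
    · rw [hxt]
      intro he
      refine S.pow_half_ne_one ?_
      rw [← hzG, show (z : G) = t * (t⁻¹ * (z : G) * t) * t⁻¹ by group, he]
      group
  have h2 : toD x₂ = v := by
    have h4 : toD x₁ * toD x₂ = u := by
      refine Eq.trans ?_ ((congrArg toD hmul).trans hxu)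
      refine Subtype.ext ?_
      show ((x₁ : Kc[(u : G)]) : G) * ((x₂ : Kc[(u : G)]) : G) = ((x₁ : Kc[(u : G)]) : G) * ((x₂ : Kc[(u : G)]) : G) * ((x₃ : Kc[(u : G)]) : G)
      rw [h3, Subgroup.coe_one, mul_one]
    rw [h1] at h4
    have h5 : u = z * v := by
      rw [hu, hz, hv, ← S.rot_add]
      exact congrArg S.rot (by decide)
    exact mul_left_cancel (h4.trans h5)
  -- the class of `r` misses its fifth power
  refine hne2 ?_
  have hx2 : ∃ n : ℕ, orderOf (x₂ : Kc[(u : G)]) = 2 ^ n := orderOf_pow_of_mem hmax'.1.1.1 x₂.2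
  have hcen := hPZ x₂.2
  have hval : ((x₂ : Kc[(u : G)]) : G) = (v : G) := congrArg Subtype.val h2
  rw [secPart_eq_sum η _ hx2]
  refine div_eq_zero_iff.mpr (Or.inl ?_)
  calc ∑ s ∈ sect 2 (x₂ : Kc[(u : G)]), pullFun (Kc[(u : G)]).subtype (sectionFun hM hmax u) ((x₂ : Kc[(u : G)]) * s) *
        (η : Kc[(u : G)] → ℂ) ((x₂ : Kc[(u : G)]) * s)
      = ∑ s ∈ sect 2 (x₂ : Kc[(u : G)]), ∑ a ∈ pairsAt M (Subgroup.zpowers (u : G)),
          etaOf 2 M D e (classOf hM hmax u) a (v : G) * (bp a (s : G)) *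
            (cval η (x₂ : Kc[(u : G)]) * (η : Kc[(u : G)] → ℂ) s) := by
        refine Finset.sum_congr rfl fun s hs => ?_
        have hcs : Commute (x₂ : Kc[(u : G)]) s :=
          (Subgroup.mem_centralizer_singleton_iff.mp (mem_sect.mp hs).1).symm
        rw [show (x₂ : Kc[(u : G)]) * s = s * (x₂ : Kc[(u : G)]) from hcs.eq, apply_mul_of_center η hcen, ← hcs.eq,
          pullFun_apply, Subgroup.coe_subtype, sectionFun, pp_subtype,
          pp_mul hx2 (mem_sect.mp hs).2 hcs, Subgroup.coe_mul, inv_mul_cancel_left, hval,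
          Finset.sum_mul, hzp]
    _ = 0 := by
        rw [Finset.sum_comm]
        refine Finset.sum_eq_zero fun a ha => ?_
        obtain ⟨Q, f⟩ := a
        obtain ⟨rfl, hf⟩ := mem_pairsAt.mp ha
        by_cases hfB : f = locB hM hmax u
        · subst hfB
          have heq : atBelow hM hmax v = atBelow hM hmax u :=
            below_ext hM hmax (atBelow_le hM hmax v) (atBelow_le hM hmax u) hzp
          refine Finset.sum_eq_zero fun s _ => ?_
          rw [show etaOf 2 M D e (classOf hM hmax u) ⟨_, locB hM hmax u⟩ (v : G) =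
              classOf hM hmax u v by
            show etaOf 2 M D e (classOf hM hmax u) (atBelow hM hmax u) (v : G) = _
            rw [← heq, etaOf_atBelow hM hmax (isPairStable_classOf hM hmax u)],
            show classOf hM hmax u v = 0 by
              rw [hu, hv]; exact classOf_rot_eq_zero hM hmax S (by decide) (by decide) (by decide)]
          ring
        · have hnot : η ∉ f := fun h => hfB (isPBlock_eq_of_mem hf hmax'.1.2.1 h hη)
          have hom := omega_blockCoeff f η
          rw [Set.indicator_of_notMem hnot, omega_eq_sum, div_eq_zero_iff,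
            or_iff_left (irr_one_ne_zero η),
            ← Finset.sum_subset (Finset.subset_univ (sect 2 (x₂ : Kc[(u : G)]))) fun k _ hk => by
              rw [blockCoeff_eq_zero_of_dvd_orderOf hM hf, zero_mul]
              by_contra hd
              exact hk (mem_sect.mpr ⟨Subgroup.mem_centralizer_singleton_iff.mpr
                (Subgroup.mem_center_iff.mp hcen k), hd⟩)] at hom
          refine Eq.trans (Finset.sum_congr rfl fun s _ => ?_)
            ((Finset.mul_sum _ _ (etaOf 2 M D e (classOf hM hmax u) ⟨_, f⟩ (v : G) *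
              cval η (x₂ : Kc[(u : G)]))).symm.trans (by rw [hom, mul_zero]))
          rw [bp_apply_coe]
          ring

/-- A block with defect group dihedral of order sixteen does not have five members. -/
theorem card_ne_five [Fintype B] (S : DihData D r 4) {Θ : IrrCharacter G → ZMod (2 * 4) → ℂ}
    {A : IrrCharacter G → ZMod (2 * 4) → ℕ} (R : RotColumns hM hmax S Θ A) (C : CountData B 4)
    (hht : ∀ χ : B, C.ht χ = blockHeight 2 B ((χ : IrrCharacter G) : G → ℂ))
    (hdeg : ∀ χ : B, C.deg χ = charDegree ((χ : IrrCharacter G) : G → ℂ))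
    (ha : ∀ (χ : B) j, C.a χ j = A (χ : IrrCharacter G) j)
    (hT : ∀ χ : B, ((C.T χ : ℤ) : ℂ) = Θ (χ : IrrCharacter G) ((4 : ℕ) : ZMod (2 * 4))) :
    Fintype.card B ≠ 5 := by
  intro hk
  -- the values from the coefficients
  set ρ : ℂ := ZMod.stdAddChar (1 : ZMod (2 * 4)) with hρ
  have hψ : ∀ j : ℕ, (ZMod.stdAddChar ((j : ZMod (2 * 4))) : ℂ) = ρ ^ j := fun j => by
    rw [hρ, ← AddChar.map_nsmul_eq_pow, nsmul_one]
  have hρ4 : ρ ^ 4 = -1 := by rw [← hψ]; exact stdAddChar_half
  set w : ℂ := ρ - ρ ^ 3 with hw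
  have hw2 : w ^ 2 = 2 := by rw [hw]; linear_combination (ρ ^ 2 - 2) * hρ4
  have hval : ∀ χ : B, ((C.T χ : ℤ) : ℂ) = (C.y4 χ : ℤ) ∧
      Θ (χ : IrrCharacter G) 1 = (C.g χ : ℂ) + w * (C.d 1 3 χ : ℂ) := by
    intro χ
    have hinv := coeff_inversion (R.coeff (χ : IrrCharacter G))
    have hsy : ∀ j : ℕ, j ≤ 8 → A (χ : IrrCharacter G) ((8 - j : ℕ) : ZMod (2 * 4)) =
        A (χ : IrrCharacter G) (j : ZMod (2 * 4)) := fun j hj => by
      rw [← coeff_symm (R.coeff _) (R.symm _) ((j : ZMod (2 * 4)))]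
      congr 1
      rw [eq_neg_iff_add_eq_zero, ← Nat.cast_add, Nat.sub_add_cancel hj]
      exact ZMod.natCast_self 8
    have h7 : A (χ : IrrCharacter G) ((7 : ℕ) : ZMod (2 * 4)) = A χ ((1 : ℕ) : ZMod (2 * 4)) :=
      hsy 1 (by norm_num)
    have h6 : A (χ : IrrCharacter G) ((6 : ℕ) : ZMod (2 * 4)) = A χ ((2 : ℕ) : ZMod (2 * 4)) :=
      hsy 2 (by norm_num)
    have h5 : A (χ : IrrCharacter G) ((5 : ℕ) : ZMod (2 * 4)) = A χ ((3 : ℕ) : ZMod (2 * 4)) :=
      hsy 3 (by norm_num)
    have hr : ∀ c : ℕ, Θ (χ : IrrCharacter G) (c : ZMod (2 * 4)) = ∑ j ∈ Finset.range 8,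
        (A (χ : IrrCharacter G) (j : ZMod (2 * 4)) : ℂ) * (ρ ^ c) ^ j := by
      intro c
      rw [hinv]
      refine Finset.sum_bij (fun j _ => j.val) (fun j _ => Finset.mem_range.mpr (ZMod.val_lt j))
        (fun _ _ _ _ h => ZMod.val_injective _ h) (fun j hj => ⟨(j : ZMod (2 * 4)), Finset.mem_univ _,
          ZMod.val_natCast_of_lt (Finset.mem_range.mp hj)⟩) fun j _ => ?_
      rw [← pow_mul, ← hψ, Nat.cast_mul, ZMod.natCast_zmod_val, mul_comm (c : ZMod (2 * 4))]
    have h4 := hr 4
    have h1 := hr 1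
    simp only [Finset.sum_range_succ, Finset.sum_range_zero, h7, h6, h5, hρ4, pow_one] at h4 h1
    refine ⟨?_, ?_⟩
    · rw [hT, h4]
      simp only [CountData.y4, CountData.d, ha]
      push_cast
      ring
    · rw [← Nat.cast_one, h1]
      simp only [CountData.g, CountData.d, ha, hw]
      push_cast
      linear_combination (ρ * (A (χ : IrrCharacter G) ((3 : ℕ) : ZMod (2 * 4)) : ℂ) +
        ρ ^ 2 * (A (χ : IrrCharacter G) ((2 : ℕ) : ZMod (2 * 4)) : ℂ) +
        ρ ^ 3 * (A (χ : IrrCharacter G) ((1 : ℕ) : ZMod (2 * 4)) : ℂ)) * hρ4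
  -- the local block at `r`
  set u : D := S.rot (1 : ZMod (2 * 4)) with hu
  set z : D := S.rot (4 : ZMod (2 * 4)) with hz
  obtain ⟨e', hmax', hlift⟩ := exists_local_max hM hmax u (fullyCentralized_rot_one (hmax := hmax) S)
  have hur : (u : G) = r := S.rot_one
  have hDK : D ⊓ Subgroup.centralizer ((Subgroup.zpowers (u : G) : Subgroup G) : Set G) =
      Subgroup.zpowers r := by
    rw [BlocksCore.centralizer_zpowers, hur]
    exact S.centralizer_inf (Subgroup.mem_zpowers r) S.sq_ne_one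
  have hPZ : locD D (u : G) ≤ Subgroup.center _ := by
    intro x hx
    refine Subgroup.mem_center_iff.mpr fun k => Subtype.ext ?_
    have hxr : (x : G) ∈ Subgroup.zpowers (u : G) :=
      (le_of_eq (hDK.trans (congrArg Subgroup.zpowers hur.symm))) hx
    exact (Subgroup.mem_centralizer_iff.mp k.2 _ hxr).symm
  have hnil := nilpotent_of_central_defect hM hmax' hPZ
  obtain ⟨η, Θ', Q', hη, h0, -, hcol, hQ⟩ := exists_local_columns hM hmax u hmax' hlift hnil
  have huK : (u : G) ∈ Subgroup.centralizer ((Subgroup.zpowers (u : G) : Subgroup G) : Set G) := by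
    rw [BlocksCore.centralizer_zpowers]; exact Subgroup.mem_centralizer_singleton_iff.mpr rfl
  set xu : locD D (u : G) := ⟨⟨(u : G), huK⟩, ⟨u.2, huK⟩⟩ with hxu
  have hto : toD xu = u := rfl
  have hm : Nat.card (Subgroup.centralizer ({xu} : Set (locD D (u : G)))) = 8 := by
    rw [show Subgroup.centralizer ({xu} : Set (locD D (u : G))) = ⊤ from
      eq_top_iff.mpr fun c _ => Subgroup.mem_centralizer_singleton_iff.mpr
        (Subtype.ext (Subgroup.mem_center_iff.mp (hPZ xu.2) (c : _))), Subgroup.card_top, locD,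
      card_subgroupOf inf_le_right, hDK, S.card_rot]
  have hcolu : IsColumn hM hmax u (fun χ => Θ' χ xu) (Q' xu) 8 := by
    have h := hcol xu (Subgroup.mem_zpowers _)
    rwa [hto, hm] at h
  obtain ⟨Qr, hQr⟩ := R.col (1 : ZMod (2 * 4)) (by decide)
  rw [if_neg (by decide)] at hQr
  obtain ⟨Qz, f, d, hcolz, hd, hQz1, hpow⟩ := R.col_half
  rw [show S.rot ((4 : ℕ) : ZMod (2 * 4)) = z by rw [hz, Nat.cast_ofNat]] at hcolz
  have hsq : ∀ χ ∈ B, Θ' χ xu * conj (Θ' χ xu) = Θ χ (1 : ZMod (2 * 4)) ^ 2 := by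
    intro χ hχ
    have h1 := hcolu.contribAt_eq hχ hχ
    have h2 := hQr.contribAt_eq hχ hχ
    rw [R.real, ← pow_two] at h2
    exact mul_left_cancel₀ (Nat.cast_ne_zero.mpr Nat.card_pos.ne' :
      (Nat.card (Subgroup.centralizer ({(u : G)} : Set G)) : ℂ) ≠ 0) (h1.symm.trans h2)
  -- the value in the group
  set L := secPart 2 η (pullFun (Kc[(u : G)]).subtype
    (conv (conv (sectionFun hM hmax z) (sectionFun hM hmax u)) (blockCoeff B))) (xu : _) with hL
  have hcen := hPZ xu.2
  have hcval : cval η (xu : Kc[(u : G)]) ^ 8 = 1 := by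
    rw [← cval_pow η hcen, show (xu : Kc[(u : G)]) ^ 8 = 1 from Subtype.ext (by
      rw [Subgroup.coe_pow, Subgroup.coe_one]
      show (u : G) ^ 8 = 1
      rw [hur]; exact S.pow_period), cval_one]
  have hLsum : L * (η : Kc[(u : G)] → ℂ) 1 = ∑ s ∈ sect 2 (u : G),
      conv (conv (sectionFun hM hmax z) (sectionFun hM hmax u)) (blockCoeff B) ((u : G) * s) *
        Q' xu s := by
    have hxo : ∃ n : ℕ, orderOf (xu : Kc[(u : G)]) = 2 ^ n := orderOf_pow_of_mem hmax'.1.1.1 xu.2
    rw [hL, secPart_eq_sum η _ hxo, div_mul_cancel₀ _ (irr_one_ne_zero η)]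
    refine Finset.sum_bij (fun s _ => (s : G)) (fun s hs => ?_) (fun _ _ _ _ h => Subtype.ext h)
      (fun s hs => ?_) fun s hs => ?_
    · refine mem_sect.mpr ⟨?_, by rw [Subgroup.orderOf_coe]; exact (mem_sect.mp hs).2⟩
      rw [← BlocksCore.centralizer_zpowers]; exact s.2
    · have hsK : s ∈ Kc[(u : G)] := by
        rw [BlocksCore.centralizer_zpowers]; exact (mem_sect.mp hs).1
      exact ⟨⟨s, hsK⟩, mem_sect.mpr ⟨Subgroup.mem_centralizer_singleton_iff.mpr
        (Subgroup.mem_center_iff.mp hcen _),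
        by rw [← Subgroup.orderOf_coe]; exact (mem_sect.mp hs).2⟩, rfl⟩
    · have hs' : (s : G) ∈ sect 2 (u : G) :=
        mem_sect.mpr ⟨by rw [← BlocksCore.centralizer_zpowers]; exact s.2,
          by rw [Subgroup.orderOf_coe]; exact (mem_sect.mp hs).2⟩
      rw [hQ xu hto s hs', show (xu : Kc[(u : G)]) * s = s * (xu : Kc[(u : G)]) from
        (Subgroup.mem_center_iff.mp hcen s).symm, apply_mul_of_center η hcen,
        (Subgroup.mem_center_iff.mp hcen s)]
      rfl
  have hQ1 : Q' xu 1 = cval η (xu : Kc[(u : G)]) * (η : Kc[(u : G)] → ℂ) 1 :=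
    hQ xu hto 1 (one_mem_sect _)
  have hzG : (z : G) = r ^ 4 := by rw [hz, ← S.rot_half, Nat.cast_ofNat]
  have hmain := sum_conv_sections hcolz hcolu
  rw [← hLsum, hQ1, hQz1, hzG] at hmain
  -- the five members
  obtain ⟨x₀, hx₀, ε, hε, hfive⟩ := C.five hk fun χ => by exact_mod_cast (hval χ).1
  have hS := hfive w hw2
  rw [← sum_mems (fun χ : IrrCharacter G => (Θ χ ((4 : ℕ) : ZMod (2 * 4))) *
    Θ χ (1 : ZMod (2 * 4)) ^ 2 / (χ : G → ℂ) 1) |>.trans
      (Finset.sum_congr rfl fun χ _ => by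
        rw [← (hval χ).2, hT, hdeg, Int.cast_natCast, ← irr_one_eq])] at hS
  rw [Finset.sum_congr rfl fun χ hχ => by
    rw [hsq χ (CharCore.SubContrib.mem_mems.mp hχ)]] at hmain
  set Sg := ∑ χ ∈ CharCore.SubContrib.mems B, Θ χ ((4 : ℕ) : ZMod (2 * 4)) *
    Θ χ (1 : ZMod (2 * 4)) ^ 2 / (χ : G → ℂ) 1
  have hη1 := irr_one_ne_zero η
  have hL' : 8 * (Nat.card (Subgroup.centralizer ({r ^ 4} : Set G)) : ℂ) * L =
      (Nat.card G : ℂ) * (((2 : ℤ) ^ f * d : ℤ) : ℂ) * cval η (xu : Kc[(u : G)]) * Sg := by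
    refine mul_right_cancel₀ hη1 ?_
    push_cast at hmain ⊢
    linear_combination hmain
  -- the powers of two
  set a := (Nat.card G).factorization 2 with ha2
  set aH := (Nat.card (Subgroup.centralizer ({r ^ 4} : Set G))).factorization 2 with haH
  set δ := charDegree (((x₀ : B) : IrrCharacter G) : G → ℂ) with hδ
  have hdef : blockDefect 2 B = 4 :=
    Nat.pow_right_injective (le_refl 2) (show 2 ^ blockDefect 2 B = 2 ^ 4 from
      (blockDefect_eq R).trans (by norm_num))
  have hvδ : δ.factorization 2 + 3 = a := by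
    have h1 : a - sInf ((fun χ : IrrCharacter G =>
        (charDegree (χ : G → ℂ)).factorization 2) '' B) = 4 := hdef
    have h2 : δ.factorization 2 - sInf ((fun χ : IrrCharacter G =>
        (charDegree (χ : G → ℂ)).factorization 2) '' B) = 1 := (hht x₀).symm.trans hx₀
    omega
  have hpow' : aH = f + 4 := by
    apply Nat.pow_right_injective (le_refl 2)
    show 2 ^ aH = 2 ^ (f + 4)
    rw [← hpow, pow_add]; ring
  obtain ⟨g', hg', hgeq⟩ : ∃ g', ¬ 2 ∣ g' ∧ Nat.card G = 2 ^ a * g' :=
    ⟨_, Nat.not_dvd_ordCompl Nat.prime_two Nat.card_pos.ne', (Nat.ordProj_mul_ordCompl_eq_self _ 2).symm⟩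
  obtain ⟨c', hc', hceq⟩ : ∃ c', ¬ 2 ∣ c' ∧
      Nat.card (Subgroup.centralizer ({r ^ 4} : Set G)) = 2 ^ aH * c' :=
    ⟨_, Nat.not_dvd_ordCompl Nat.prime_two Nat.card_pos.ne', (Nat.ordProj_mul_ordCompl_eq_self _ 2).symm⟩
  obtain ⟨d', hd', hdeq⟩ : ∃ d', ¬ 2 ∣ d' ∧ δ = 2 ^ δ.factorization 2 * d' :=
    ⟨_, Nat.not_dvd_ordCompl Nat.prime_two (charDegree_pos _).ne', (Nat.ordProj_mul_ordCompl_eq_self _ 2).symm⟩
  obtain ⟨σ, hσ, hεσ⟩ : ∃ σ : ℤ, (σ = 1 ∨ σ = -1) ∧ ε = 16 * σ := by
    rcases hε with h | h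
    · exact ⟨1, Or.inl rfl, by omega⟩
    · exact ⟨-1, Or.inr rfl, by omega⟩
  rw [hdeg, Int.cast_natCast, ← hδ, hdeq] at hS
  rw [hgeq, hceq] at hL'
  obtain ⟨cv, hcv⟩ : ∃ cv, cv = cval η (xu : Kc[(u : G)]) := ⟨_, rfl⟩
  simp only [← hcv] at hL' hcval
  have hunit : ((3 * d' * c' : ℕ) : ℂ) * L =
      (((g' : ℤ) * d * σ : ℤ) : ℂ) * cv := by
    refine mul_left_cancel₀ (pow_ne_zero (a + aH) two_ne_zero : (2 : ℂ) ^ (a + aH) ≠ 0) ?_
    rw [hεσ] at hS
    rw [hpow', ← hvδ] at hL' ⊢
    push_cast at hS hL' ⊢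
    linear_combination ((3 : ℂ) * 2 ^ (δ.factorization 2) * (d' : ℂ)) * hL' +
      ((2 : ℂ) ^ (δ.factorization 2 + 3) * (g' : ℂ) * 2 ^ f * (d : ℂ) * cv) * hS
  -- the contradiction
  have hmem : MemLocalIdeal M L := secPart_mem hM hmax S hu hz rfl hmax' hPZ hη h0 xu hto
  have h1 := memLocalIdeal_mul_left (memLocalRing_natCast (3 * d' * c')) hmem
  rw [hunit] at h1
  have hint : MemLocalRing M (cv ^ 7) := memLocalRing_of_isIntegral <|
    IsIntegral.of_pow (n := 8) (by norm_num) (by
      rw [← pow_mul, mul_comm, pow_mul, hcval, one_pow]; exact isIntegral_one)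
  have h2 := memLocalIdeal_mul_left hint h1
  rw [show cv ^ 7 * ((((g' : ℤ) * d * σ : ℤ) : ℂ) * cv) =
    (((g' : ℤ) * d * σ : ℤ) : ℂ) by linear_combination (((g' : ℤ) * d * σ : ℤ) : ℂ) * hcval] at h2
  rcases Int.prime_two.dvd_or_dvd ((memLocalIdeal_intCast_iff hM _).mp h2) with h | h
  · rcases Int.prime_two.dvd_or_dvd h with h | h
    · exact hg' (by exact_mod_cast h)
    · exact hd h
  · rcases hσ with rfl | rfl <;> omega

end Sixteen

end Cfsg.Agent.BC84.Dihedral
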